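import Mathlib.GroupTheory.OrderOfElement
import Mathlib.GroupTheory.Index
import Mathlib.Algebra.Group.Subgroup.Finite
import Mathlib.GroupTheory.PGroup

/-!
# Groups with a partition

An invariant partition is given by the function sending an element to its component. Basic lemmas:
refinement of an arbitrary partition to an invariant one and the commuting lemma.
-/

set_option autoImplicit false

namespace Cfsg.Agent.Lib.Partition73

universe u

variable {G : Type u} [Group G]

/-- A conjugation invariant non-trivial partition, as the component function. -/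
structure Part (G : Type u) [Group G] where
  /-- the component of an element -/
  comp : G → Subgroup G
  mem : ∀ g : G, g ∈ comp g
  eq_of_mem : ∀ {g h : G}, g ≠ 1 → h ∈ comp g → h ≠ 1 → comp h = comp g
  ne_top : ∀ {g : G}, g ≠ 1 → comp g ≠ ⊤
  conj_mem : ∀ {g h : G} (b : G), g ≠ 1 → h ∈ comp g → b * h * b⁻¹ ∈ comp (b * g * b⁻¹)

/-- Every partition refines to an invariant one. -/
theorem exists_part (S : Set (Subgroup G)) (hS2 : ∃ H ∈ S, ∃ K ∈ S, H ≠ K) (hS1 : ∀ H ∈ S, H ≠ ⊥)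
    (hpart : ∀ g : G, g ≠ 1 → ∃! H : Subgroup G, H ∈ S ∧ g ∈ H) : Nonempty (Part G) := by
  classical
  let c : G → Subgroup G := fun g => if h : g ≠ 1 then (hpart g h).choose else ⊤
  have hcS : ∀ g, g ≠ 1 → c g ∈ S ∧ g ∈ c g := fun g hg => by
    simp only [c, dif_pos hg]; exact (hpart g hg).choose_spec.1
  have hcu : ∀ g, g ≠ 1 → ∀ H ∈ S, g ∈ H → H = c g := fun g hg H hH hgH => by
    simp only [c, dif_pos hg]; exact (hpart g hg).choose_spec.2 H ⟨hH, hgH⟩
  have hne : ∀ g, g ≠ 1 → c g ≠ ⊤ := by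
    intro g hg htop
    obtain ⟨H, hH, K, hK, hHK⟩ := hS2
    have key : ∀ H ∈ S, H = c g := by
      intro H hH
      obtain ⟨x, hx, hx1⟩ := H.bot_or_exists_ne_one.resolve_left (hS1 H hH)
      rw [hcu x hx1 H hH hx]
      exact (hcu x hx1 (c g) (hcS g hg).1 (htop ▸ Subgroup.mem_top x)).symm
    exact hHK ((key H hH).trans (key K hK).symm)
  let r : G → Subgroup G := fun g => ⨅ b : G, (c (b * g * b⁻¹)).comap (MulAut.conj b).toMonoidHom
  have hr : ∀ g h, h ∈ r g ↔ ∀ b : G, b * h * b⁻¹ ∈ c (b * g * b⁻¹) := fun g h => by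
    simp [r, Subgroup.mem_iInf]
  have hc1 : ∀ g b : G, g ≠ 1 → b * g * b⁻¹ ≠ 1 := fun g b hg h => hg (by simpa using h)
  refine ⟨⟨r, fun g => (hr g g).2 fun b => ?_, fun {g h} hg hh hh1 => ?_, fun {g} hg htop => ?_,
    fun {g h} b hg hh => ?_⟩⟩
  · by_cases hg : g = 1
    · subst hg; simp
    · exact (hcS _ (hc1 g b hg)).2
  · have e : ∀ b, c (b * h * b⁻¹) = c (b * g * b⁻¹) := fun b =>
      (hcu _ (hc1 h b hh1) _ (hcS _ (hc1 g b hg)).1 ((hr g h).1 hh b)).symm
    exact Subgroup.ext fun x => by rw [hr, hr]; simp only [e]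
  · refine hne g hg (eq_top_iff.2 fun x _ => ?_)
    have := (hr g x).1 (htop ▸ Subgroup.mem_top x) 1
    simpa using this
  · rw [hr]
    intro d
    have := (hr g h).1 hh (d * b)
    simpa [mul_assoc] using this

namespace Part

variable (P : Part G) {x y g : G}

theorem eq_comp (hg : g ≠ 1) (hx : x ∈ P.comp g) (hx1 : x ≠ 1) : P.comp x = P.comp g :=
  P.eq_of_mem hg hx hx1

theorem comp_eq_of_common {z : G} (hx : x ≠ 1) (hy : y ≠ 1) (hz : z ≠ 1) (hzx : z ∈ P.comp x)
    (hzy : z ∈ P.comp y) : P.comp x = P.comp y :=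
  (P.eq_comp hx hzx hz).symm.trans (P.eq_comp hy hzy hz)

theorem eq_one_of_mem_of_mem {z : G} (hx : x ≠ 1) (hy : y ≠ 1) (hne : P.comp x ≠ P.comp y)
    (hzx : z ∈ P.comp x) (hzy : z ∈ P.comp y) : z = 1 :=
  by_contra fun hz => hne (P.comp_eq_of_common hx hy hz hzx hzy)

theorem pow_mem (x : G) (n : ℕ) : x ^ n ∈ P.comp x := _root_.pow_mem (P.mem x) n

theorem comp_pow (hx : x ≠ 1) {n : ℕ} (hn : x ^ n ≠ 1) : P.comp (x ^ n) = P.comp x :=
  P.eq_comp hx (P.pow_mem x n) hn

/-- An element fixing a non-trivial element of a component normalises it. -/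
theorem mem_normalizer {b a : G} (hg : g ≠ 1) (ha : a ∈ P.comp g) (ha1 : a ≠ 1)
    (hba : b * a * b⁻¹ ∈ P.comp g) : b ∈ Subgroup.normalizer (P.comp g : Set G) := by
  have hfix : ∀ b : G, b * a * b⁻¹ ∈ P.comp g → ∀ h ∈ P.comp g, b * h * b⁻¹ ∈ P.comp g := by
    intro b hb h hh
    have hb1 : b * a * b⁻¹ ≠ 1 := fun e => ha1 (by simpa using e)
    have hg1 : b * g * b⁻¹ ≠ 1 := fun e => hg (by simpa using e)
    rw [P.comp_eq_of_common hg hg1 hb1 hb (P.conj_mem b hg ha)]
    exact P.conj_mem b hg hh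
  rw [Subgroup.mem_normalizer_iff]
  intro h
  refine ⟨hfix b hba h, fun hh => ?_⟩
  have hinv : b⁻¹ * a * b⁻¹⁻¹ ∈ P.comp g := by
    by_contra hcon
    apply hcon
    have hg1 : b⁻¹ * g * b⁻¹⁻¹ ≠ 1 := fun e => hg (conj_eq_one_iff.1 e)
    have e1 : P.comp g = P.comp (b⁻¹ * g * b⁻¹⁻¹) := by
      refine P.comp_eq_of_common hg hg1 ha1 ha ?_
      simpa [mul_assoc] using P.conj_mem b⁻¹ hg hba
    rw [e1]
    exact P.conj_mem b⁻¹ hg ha
  have := hfix b⁻¹ hinv _ hh
  simpa [mul_assoc] using this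

theorem mem_normalizer_of_commute {b a : G} (hg : g ≠ 1) (ha : a ∈ P.comp g) (ha1 : a ≠ 1)
    (hc : b * a = a * b) : b ∈ Subgroup.normalizer (P.comp g : Set G) :=
  P.mem_normalizer hg ha ha1 (by rw [hc]; simpa using ha)

/-- A subgroup invariant under all inner automorphisms. -/
theorem normal_of_invariant (hg : g ≠ 1)
    (h : ∀ b : G, ∃ a ∈ P.comp g, a ≠ 1 ∧ b * a * b⁻¹ ∈ P.comp g) : (P.comp g).Normal :=
  Subgroup.normalizer_eq_top_iff.1 (eq_top_iff.2 fun b _ => by
    obtain ⟨a, ha, ha1, hba⟩ := h b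
    exact P.mem_normalizer hg ha ha1 hba)

/-- A component containing a non-trivial normal subgroup is normal. -/
theorem normal_of_le (hg : g ≠ 1) {N : Subgroup G} [N.Normal] (hN : N ≠ ⊥) (hle : N ≤ P.comp g) :
    (P.comp g).Normal := by
  obtain ⟨a, ha, ha1⟩ := N.bot_or_exists_ne_one.resolve_left hN
  exact P.normal_of_invariant hg fun b =>
    ⟨a, hle ha, ha1, hle (Subgroup.Normal.conj_mem inferInstance a ha b)⟩

variable [Finite G]

/-- Commuting elements of different components have the same prime order. -/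
theorem prime_of_commute (hx : x ≠ 1) (hy : y ≠ 1) (hc : x * y = y * x)
    (hne : P.comp x ≠ P.comp y) : (orderOf x).Prime ∧ orderOf y = orderOf x := by
  have key : ∀ x y : G, x ≠ 1 → y ≠ 1 → x * y = y * x → P.comp x ≠ P.comp y → y ^ orderOf x = 1 := by
    intro x y hx hy hc hne
    by_contra hpow
    have hxy : x * y ≠ 1 := fun e => hne (by
      rw [eq_inv_of_mul_eq_one_right e]
      exact (P.eq_comp hx (inv_mem (P.mem x)) (inv_ne_one.2 hx)).symm)
    have e : (x * y) ^ orderOf x = y ^ orderOf x := by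
      rw [Commute.mul_pow hc, pow_orderOf_eq_one, one_mul]
    have h1 : P.comp (x * y) = P.comp y :=
      P.comp_eq_of_common hxy hy hpow (e ▸ P.pow_mem (x * y) _) (P.pow_mem y _)
    have hxm : x ∈ P.comp y := by
      have := mul_mem (h1 ▸ P.mem (x * y) : x * y ∈ P.comp y) (inv_mem (P.mem y))
      rwa [mul_inv_cancel_right] at this
    exact hne (P.eq_comp hy hxm hx)
  have hn : orderOf x = orderOf y :=
    Nat.dvd_antisymm (orderOf_dvd_of_pow_eq_one (key y x hy hx hc.symm (Ne.symm hne)))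
      (orderOf_dvd_of_pow_eq_one (key x y hx hy hc hne))
  refine ⟨?_, hn.symm⟩
  have h1 : orderOf x ≠ 1 := fun e => hx (orderOf_eq_one_iff.1 e)
  obtain ⟨p, hp, hpd⟩ := Nat.exists_prime_and_dvd h1
  by_contra hnp
  have hd : orderOf x / p ≠ 0 := by
    have := Nat.le_of_dvd (orderOf_pos x) hpd
    have := hp.pos
    exact (Nat.div_pos (by omega) hp.pos).ne'
  set d := orderOf x / p with hddef
  have hdp : d * p = orderOf x := Nat.div_mul_cancel hpd
  have hord : orderOf (x ^ p) = d := by rw [orderOf_pow_of_dvd hp.pos.ne' hpd]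
  have hxp : x ^ p ≠ 1 := fun e => hnp (by
    have := orderOf_dvd_of_pow_eq_one e
    rcases hp.eq_one_or_self_of_dvd _ this with h | h
    · exact absurd h h1
    · exact h ▸ hp)
  have hk := key (x ^ p) y hxp hy ((Commute.pow_left hc p).eq) (by rw [P.comp_pow hx hxp]; exact hne)
  rw [hord] at hk
  have := Nat.le_of_dvd (Nat.pos_of_ne_zero hd) (hn ▸ orderOf_dvd_of_pow_eq_one hk)
  have hlt : d < d * p := lt_mul_of_one_lt_right (Nat.pos_of_ne_zero hd) hp.one_lt
  omega

theorem comp_eq_of_commute (hx : x ≠ 1) (hy : y ≠ 1) (hc : x * y = y * x)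
    (ho : orderOf y ≠ orderOf x) : P.comp x = P.comp y :=
  by_contra fun hne => ho (P.prime_of_commute hx hy hc hne).2

/-- Commuting with two elements of different orders puts an element in their component. -/
theorem comp_eq_of_commute_two {z : G} (hx : x ≠ 1) (hy : y ≠ 1) (hz : z ≠ 1)
    (hxy : P.comp x = P.comp y) (ho : orderOf x ≠ orderOf y) (hzx : z * x = x * z)
    (hzy : z * y = y * z) : P.comp z = P.comp x :=
  by_contra fun hne => ho ((P.prime_of_commute hz hx hzx hne).2.trans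
    (P.prime_of_commute hz hy hzy (hxy ▸ hne)).2.symm)

end Part

/-- The conclusion in the case of a normal component or a non-trivial abelian normal subgroup. -/
def IsHughes (G : Type u) [Group G] : Prop :=
  ∃ p : ℕ, p.Prime ∧ Subgroup.closure {g : G | g ^ p ≠ 1} ≠ ⊤

theorem isHughes_of_forall {p : ℕ} (hp : p.Prime) (H : Subgroup G) (hH : H ≠ ⊤)
    (h : ∀ g : G, g ∉ H → g ^ p = 1) : IsHughes G :=
  ⟨p, hp, fun e => hH (eq_top_iff.2 (e ▸ (Subgroup.closure_le H).2
    fun g hg => by_contra fun hgH => hg (h g hgH)))⟩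

/-- A non-trivial centre gives a proper Hughes subgroup. -/
theorem Part.isHughes_of_central [Finite G] (P : Part G) {z : G} (hz1 : z ≠ 1)
    (hz : ∀ g : G, g * z = z * g) : IsHughes G := by
  obtain ⟨y, hy⟩ : ∃ y, y ∉ P.comp z := by
    by_contra h
    push Not at h
    exact P.ne_top hz1 (eq_top_iff.2 fun g _ => h g)
  have hy1 : y ≠ 1 := fun e => hy (e ▸ one_mem _)
  have hne : ∀ g, g ∉ P.comp z → g ≠ 1 → P.comp z ≠ P.comp g := fun g hg _ e => hg (e ▸ P.mem g)
  obtain ⟨hp, -⟩ := P.prime_of_commute hz1 hy1 (hz y).symm (hne y hy hy1)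
  refine isHughes_of_forall hp _ (P.ne_top hz1) fun g hg => ?_
  have hg1 : g ≠ 1 := fun e => hg (e ▸ one_mem _)
  rw [← (P.prime_of_commute hz1 hg1 (hz g).symm (hne g hg hg1)).2, pow_orderOf_eq_one]

end Cfsg.Agent.Lib.Partition73
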