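import Cfsg.Agent.Lib.Partition73.Key
import Cfsg.Agent.Lib.Partition73.Basic
import Cfsg.Agent.Lib.Frobenius.Basic
import Mathlib.GroupTheory.SchurZassenhaus
import Mathlib.GroupTheory.Nilpotent

/-!
# Norm maps of conjugation and Frobenius kernels
-/

set_option autoImplicit false
set_option linter.style.haveILetI false

namespace Cfsg.Agent.Lib.Partition73

variable {G : Type*} [Group G]

/-- The norm of conjugation by `y` computed in `G`. -/
theorem mul_pow_eq_norm (N : Subgroup G) [N.Normal] [IsMulCommutative N] (v : N) (y : G) (k : ℕ) :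
    open scoped IsMulCommutative in
    ((v : G) * y) ^ k = ((∏ i ∈ Finset.range k, MulAut.conjNormal (y ^ i) v : N) : G) * y ^ k := by
  open scoped IsMulCommutative in
  induction k with
  | zero => simp
  | succ k ih =>
    rw [pow_succ, ih, Finset.prod_range_succ, Subgroup.coe_mul, MulAut.conjNormal_apply]
    group

theorem norm_eq_one_of_pow (N : Subgroup G) [N.Normal] [IsMulCommutative N] {p : ℕ} {y : G}
    (hy : y ^ p = 1) (h : ∀ v : N, ((v : G) * y) ^ p = 1) (v : N) :
    open scoped IsMulCommutative in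
    ∏ i ∈ Finset.range p, MulAut.conjNormal (y ^ i) v = 1 := by
  open scoped IsMulCommutative in
  exact Subtype.ext (by simpa [hy] using (mul_pow_eq_norm N v y p).symm.trans (h v))

theorem eq_of_conjNormal_fix (N : Subgroup G) [N.Normal] {w : G} {v : N}
    (h : MulAut.conjNormal w v = v) : w * (v : G) = (v : G) * w := by
  have := congrArg Subtype.val h
  rw [MulAut.conjNormal_apply, mul_inv_eq_iff_eq_mul] at this
  exact this

theorem exists_fixed_of_pGroup [Finite G] {p : ℕ} [Fact p.Prime] {N : Subgroup G} [N.Normal]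
    (hNp : IsPGroup p N) (hN : N ≠ ⊥) {P : Subgroup G} (hP : IsPGroup p P) :
    ∃ v ∈ N, v ≠ 1 ∧ ∀ u ∈ P, u * v = v * u := by
  obtain ⟨k, hk⟩ := IsPGroup.iff_card.1 hNp
  have hk0 : k ≠ 0 := fun e => hN (Subgroup.card_eq_one.1 (by rw [hk, e, pow_zero]))
  letI : MulAction P N := MulAction.compHom N ((MulAut.conjNormal (H := N)).comp P.subtype)
  have hsmul : ∀ (u : P) (v : N), u • v = MulAut.conjNormal (u : G) v := fun _ _ => rfl
  obtain ⟨b, hb, hb1⟩ := hP.exists_fixed_point_of_prime_dvd_card_of_fixed_point (α := N)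
    (show p ∣ Nat.card N from hk ▸ dvd_pow_self p hk0) (a := (1 : N))
    (fun u => by rw [hsmul, map_one])
  refine ⟨b, b.2, fun e => hb1 (Subtype.ext e).symm, fun u hu => eq_of_conjNormal_fix N ?_⟩
  exact (hsmul ⟨u, hu⟩ b).symm.trans (hb ⟨u, hu⟩)

/-- A normal subgroup containing the centralisers of its non-trivial elements is a Frobenius kernel. -/
theorem exists_complement [Finite G] (X : Subgroup G) [X.Normal] (hX : X ≠ ⊥) (hX' : X ≠ ⊤)
    (h : ∀ x ∈ X, x ≠ 1 → ∀ z : G, z * x = x * z → z ∈ X) :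
    ∃ H : Subgroup G, Cfsg.IsFrobeniusComplement H := by
  have hcop : (Nat.card X).Coprime X.index := by
    rw [Nat.coprime_iff_gcd_eq_one]
    by_contra hne
    obtain ⟨q, hq, hqd⟩ := Nat.exists_prime_and_dvd hne
    haveI := Fact.mk hq
    obtain ⟨x, hx⟩ := exists_prime_orderOf_dvd_card' (G := X) q (hqd.trans (Nat.gcd_dvd_left _ _))
    have hxG : orderOf (x : G) = q := by rw [Subgroup.orderOf_coe, hx]
    have hxp : IsPGroup q (Subgroup.zpowers (x : G)) := IsPGroup.of_card (n := 1) (by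
      rw [Nat.card_zpowers, hxG, pow_one])
    obtain ⟨P, hP⟩ := hxp.exists_le_sylow
    have hx1 : (x : G) ≠ 1 := fun e => by rw [e, orderOf_one] at hxG; exact hq.ne_one hxG.symm
    haveI : Nontrivial (P : Subgroup G) := (Subgroup.nontrivial_iff_ne_bot _).2 fun e =>
      hx1 (Subgroup.mem_bot.1 (e ▸ hP (Subgroup.mem_zpowers _)))
    haveI := P.isPGroup'.center_nontrivial
    obtain ⟨z, hz⟩ := exists_ne (1 : Subgroup.center (P : Subgroup G))
    have hzc : ∀ u ∈ (P : Subgroup G), u * ((z : (P : Subgroup G)) : G) = ((z : (P : Subgroup G)) : G) * u :=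
      fun u hu => congrArg Subtype.val (Subgroup.mem_center_iff.1 z.2 ⟨u, hu⟩)
    have hzX : ((z : (P : Subgroup G)) : G) ∈ X :=
      h x x.2 hx1 _ (hzc x (hP (Subgroup.mem_zpowers _))).symm
    have hPX : (P : Subgroup G) ≤ X := fun u hu =>
      h _ hzX (fun e => hz (Subtype.ext (Subtype.ext e))) u (hzc u hu)
    exact P.not_dvd_index ((hqd.trans (Nat.gcd_dvd_right _ _)).trans (Subgroup.index_dvd_of_le hPX))
  obtain ⟨H, hH⟩ := Subgroup.exists_right_complement'_of_coprime hcop
  have hH1 : H ≠ ⊥ := fun e => hX' (Subgroup.isComplement'_bot_right.1 (e ▸ hH))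
  refine ⟨H, (Frobenius.isFrobeniusComplement_iff_centralizer hH hX hH1).2 fun e he he1 => ?_⟩
  rw [Subgroup.eq_bot_iff_forall]
  rintro x ⟨hxX, hxe⟩
  by_contra hx1
  exact he1 (Subgroup.disjoint_def.1 hH.disjoint
    (h x hxX hx1 e (Subgroup.mem_centralizer_singleton_iff.1 hxe).symm) he)

/-- A non-trivial normal subgroup of a nilpotent group meets the centre non-trivially. -/
theorem inf_center_ne_bot [Group.IsNilpotent G] {N : Subgroup G} [hN : N.Normal] (h1 : N ≠ ⊥) :
    N ⊓ Subgroup.center G ≠ ⊥ := by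
  intro h
  obtain ⟨n, hn⟩ := Group.IsNilpotent.nilpotent G
  refine h1 ?_
  have key : ∀ i, N ⊓ Subgroup.upperCentralSeries G i = ⊥ := by
    intro i
    induction i with
    | zero => simp [Subgroup.upperCentralSeries_zero]
    | succ i ih =>
      rw [Subgroup.eq_bot_iff_forall]
      rintro x ⟨hxN, hxZ⟩
      refine Subgroup.mem_bot.1 (h ▸ ⟨hxN, Subgroup.mem_center_iff.2 fun g => ?_⟩)
      have h1 := (Subgroup.mem_upperCentralSeries_succ_iff).1 hxZ g
      have h2 : x * g * x⁻¹ * g⁻¹ ∈ N := by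
        have h3 : x * (g * x⁻¹ * g⁻¹) ∈ N := N.mul_mem hxN (hN.conj_mem _ (N.inv_mem hxN) g)
        simpa [mul_assoc] using h3
      have h4 : x * g * x⁻¹ * g⁻¹ = 1 := Subgroup.mem_bot.1 (ih ▸ ⟨h2, h1⟩)
      rw [mul_inv_eq_one, mul_inv_eq_iff_eq_mul] at h4
      exact h4.symm
  have := key n
  rwa [hn, inf_top_eq] at this

end Cfsg.Agent.Lib.Partition73
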