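import Cfsg.Agent.Lib.Partition73.Three
import Cfsg.Agent.Lib.GWConsumers70.Almost
import Cfsg.Agent.Lib.GorensteinWalter.ModelsC.Abstract
import Cfsg.Agent.Lib.PGroups.Recognition
import Cfsg.Agent.S0061

/-!
# Partitions: dihedral Sylow 2-subgroups

With one involution in `S ∩ comp z` the group is, by Gorenstein–Walter, `PSL(2,q)` or `PGL(2,q)`:
`A₇` has two non-commuting elements in one `C(t) ∩ comp t`, and field automorphisms are impossible
since the group is generated modulo squares by involutions.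
-/

set_option autoImplicit false
set_option linter.style.haveILetI false
set_option linter.unusedSectionVars false

namespace Cfsg.Agent.Lib.Partition73

open Cfsg.Agent.Lib.GorensteinWalter.Model Cfsg.Agent.Lib.AutPSL Matrix
open scoped MatrixGroups

universe u

/-- `PSL(2,q)` or `PGL(2,q)`. -/
def OddType (G : Type u) [Group G] : Prop :=
  (∃ (F : Type) (_ : Field F) (_ : Fintype F), 4 ≤ Fintype.card F ∧
      Nonempty (G ≃* Matrix.ProjectiveSpecialLinearGroup (Fin 2) F)) ∨
    ∃ (F : Type) (_ : Field F) (_ : Fintype F), 5 ≤ Fintype.card F ∧ Odd (Fintype.card F) ∧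
      Nonempty (G ≃* (GL (Fin 2) F ⧸ Subgroup.center (GL (Fin 2) F)))

theorem alt_seven : ∃ x y : alternatingGroup (Fin 7),
    x * x ≠ 1 ∧ x * x * (x * x) = 1 ∧ y * y * y = 1 ∧ y ≠ 1 ∧
      y * (x * x) = x * x * y ∧ x * y ≠ y * x := by
  refine ⟨⟨Equiv.swap (0 : Fin 7) 3 * Equiv.swap 0 1 * Equiv.swap 0 2 * Equiv.swap 4 5, ?_⟩,
    ⟨Equiv.swap (4 : Fin 7) 6 * Equiv.swap 4 5, ?_⟩, ?_, ?_, ?_, ?_, ?_, ?_⟩
  all_goals first
    | decide +kernel
    | (rw [Equiv.Perm.mem_alternatingGroup]; decide +kernel)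

/-- A solvable normal subgroup is trivial. -/
theorem SemiHyp.solvable_bot {G : Type u} [Group G] [Finite G] {P : Part G} (h : SemiHyp P)
    (N : Subgroup G) [N.Normal] [Group.IsSolvable N] : N = ⊥ := by
  induction hn : Nat.card N using Nat.strong_induction_on generalizing N with
  | _ n ih =>
    by_contra hne
    haveI : Nontrivial N := (Subgroup.nontrivial_iff_ne_bot N).2 hne
    have hlt : ⁅N, N⁆ < N := by
      have h1 : _root_.commutator N < ⊤ := Group.IsSolvable.commutator_lt_top_of_nontrivial N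
      have h2 : (_root_.commutator N).map N.subtype < (⊤ : Subgroup N).map N.subtype :=
        Subgroup.map_lt_map_iff_of_injective N.subtype_injective |>.2 h1
      rwa [commutator_def, Subgroup.map_commutator, ← MonoidHom.range_eq_map, Subgroup.range_subtype] at h2
    haveI : Group.IsSolvable ↥⁅N, N⁆ :=
      Group.isSolvable_of_isSolvable_injective (f := Subgroup.inclusion hlt.le) (Subgroup.inclusion_injective _)
    have hb := ih _ (hn ▸ lt_of_le_of_ne (Subgroup.card_le_of_le hlt.le)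
      fun e => hlt.ne (Subgroup.eq_of_le_of_card_ge hlt.le e.ge)) ⁅N, N⁆ rfl
    refine hne (h.noAbelian N inferInstance ⟨⟨fun a b => Subtype.ext ?_⟩⟩)
    have := Subgroup.commutator_mem_commutator a.2 b.2
    rw [hb, Subgroup.mem_bot, commutatorElement_eq_one_iff_commute] at this
    exact this

variable {G : Type u} [Group G] [Finite G] {P : Part G}

variable {F : Type} [Field F] [Fintype F]

local notation "SL2" => Matrix.SpecialLinearGroup (Fin 2) F
local notation "PSL2" => Matrix.ProjectiveSpecialLinearGroup (Fin 2) F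
local notation "GL2" => GL (Fin 2) F

theorem isSquare_mul_of_not {a b : F} (hodd : ringChar F ≠ 2) (ha : a ≠ 0) (hb : b ≠ 0)
    (ha' : ¬ IsSquare a) (hb' : ¬ IsSquare b) : IsSquare (a * b) := by
  rw [FiniteField.isSquare_iff hodd ha] at ha'
  rw [FiniteField.isSquare_iff hodd hb] at hb'
  rw [FiniteField.isSquare_iff hodd (mul_ne_zero ha hb), mul_pow,
    (FiniteField.pow_dichotomy hodd ha).resolve_left ha',
    (FiniteField.pow_dichotomy hodd hb).resolve_left hb']
  ring

theorem psl_not_comm (h : ∀ p q : PSL2, p * q = q * p) : False := by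
  have h1 := h (QuotientGroup.mk (PSLTwo.Sylow.mk2 1 1 0 1 (by ring)))
    (QuotientGroup.mk (PSLTwo.Sylow.mk2 1 0 1 1 (by ring)))
  rw [← QuotientGroup.mk_mul, ← QuotientGroup.mk_mul] at h1
  obtain ⟨c, hc⟩ := (mk_eq_mk_iff _ _).1 h1
  have e00 := congrFun (congrFun hc 0) 0
  have e01 := congrFun (congrFun hc 0) 1
  simp only [Matrix.smul_apply, smul_eq_mul, PSLTwo.Sylow.mul_apply', PSLTwo.Sylow.mk2_00,
    PSLTwo.Sylow.mk2_01, PSLTwo.Sylow.mk2_10, PSLTwo.Sylow.mk2_11] at e00 e01
  exact one_ne_zero (α := F) (by linear_combination e01 * 2 - e00)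

/-- One class of involutions in `PSL(2,q)`. -/
theorem psl_conj (hodd : ringChar F ≠ 2) {a b : PSL2} (ha : orderOf a = 2) (hb : orderOf b = 2) :
    ∃ g : PSL2, g * a * g⁻¹ = b := by
  have h2 : (2 : F) ≠ 0 := Ring.two_ne_zero hodd
  have hq : Fintype.card F % 2 = 1 := FiniteField.odd_card_of_char_ne_two hodd
  have key : ∀ a : PSL2, orderOf a = 2 → ∃ s : SL2, (QuotientGroup.mk s : PSL2) = a ∧ PSLTwo.Sylow.slTr s = 0 := by
    intro a ha
    obtain ⟨s, rfl⟩ := QuotientGroup.mk_surjective a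
    refine ⟨s, rfl, ?_⟩
    have hz : s * s ∈ Subgroup.center SL2 := by
      rw [← QuotientGroup.eq_one_iff, QuotientGroup.mk_mul, ← sq]
      exact orderOf_dvd_iff_pow_eq_one.1 (dvd_of_eq ha)
    rcases (PSLTwo.Sylow.mem_center_iff' h2).1 hz with h1 | h1
    · exfalso
      have hs : s ∈ Subgroup.center SL2 := by
        rcases PSLTwo.Sylow.sq_eq_one h2 h1 with rfl | rfl
        · exact one_mem _
        · exact (PSLTwo.Sylow.mem_center_iff' h2).2 (Or.inr rfl)
      exact ne_one_of_orderOf ha ((QuotientGroup.eq_one_iff _).2 hs)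
    · have hi : s⁻¹ = PSLTwo.Sylow.negOne * s := by
        refine inv_eq_of_mul_eq_one_left ?_
        rw [mul_assoc, h1, PSLTwo.Sylow.negOne_sq]
      have h3 := congrArg PSLTwo.Sylow.slTr hi
      rw [PSLTwo.Sylow.slTr_inv] at h3
      simp only [PSLTwo.Sylow.slTr, PSLTwo.Sylow.negOne_mul] at h3 ⊢
      simp at h3
      exact mul_left_cancel₀ h2 (by linear_combination h3)
  obtain ⟨s, rfl, hs⟩ := key a ha
  obtain ⟨r, rfl, hr⟩ := key b hb
  obtain ⟨g, hg⟩ := PSLTwo.Sylow.exists_conj (a := s) (b := r) hq h2 (by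
    rw [hs, zero_pow two_ne_zero]
    intro h4
    exact h2 (mul_self_eq_zero.1 (by linear_combination -h4))) (hr.trans hs.symm)
  exact ⟨QuotientGroup.mk g, by rw [← hg]; rfl⟩

namespace Three

variable {S : Sylow 2 G} {z u : G} (h : Three P S z u) (hs : SemiHyp P)
  (hI : ∀ t : G, orderOf t = 2 → ¬ P.TypeOne t)

include h hs hI

theorem dihedral : ∃ n, 2 ≤ n ∧ Nonempty ((S : Subgroup G) ≃* DihedralGroup n) := by
  haveI : Fact (Nat.Prime 2) := ⟨Nat.prime_two⟩
  set A := (S : Subgroup G) ⊓ P.comp z with hA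
  haveI := h.isCyclic hs hI
  obtain ⟨⟨a, ha⟩, hgen⟩ := IsCyclic.exists_generator (α := A)
  have hza : z ∈ A := ⟨h.z_mem, P.mem z⟩
  have hgenA : A = Subgroup.zpowers a := by
    refine le_antisymm (fun x hx => ?_) (Subgroup.zpowers_le.2 ha)
    obtain ⟨i, hi⟩ := Subgroup.mem_zpowers_iff.1 (hgen ⟨x, hx⟩)
    exact ⟨i, congrArg Subtype.val hi⟩
  have hcardA : Nat.card A = orderOf a := by rw [hgenA, Nat.card_zpowers]
  refine ⟨orderOf a, ?_, ?_⟩
  · rw [← hcardA, ← h.z_two]
    exact Nat.le_of_dvd Nat.card_pos (Subgroup.orderOf_dvd_natCard A hza)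
  haveI : NeZero (orderOf a) := ⟨(orderOf_pos a).ne'⟩
  refine PGroups.nonempty_dihedral_equiv (a := (⟨a, ha.1⟩ : (S : Subgroup G))) (x := ⟨u, h.u_mem⟩)
    (Subgroup.orderOf_mk a ha.1) (Subtype.ext ?_) (Subtype.ext (h.inverts h.u_mem h.u_notMem ha)) ?_ ?_
  · show u ^ 2 = 1
    rw [sq, h.u_sq h.u_mem h.u_notMem]
  · intro hu
    obtain ⟨i, hi⟩ := Subgroup.mem_zpowers_iff.1 hu
    refine h.u_notMem (?_ : u ∈ A).2
    rw [hgenA]
    exact ⟨i, congrArg Subtype.val hi⟩
  · have h1 := Subgroup.relIndex_mul_relIndex ⊥ A (S : Subgroup G) bot_le inf_le_left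
    rw [Subgroup.relIndex_bot_left, Subgroup.relIndex_bot_left, h.relIndex, hcardA] at h1
    rw [← h1, mul_comm]

/-- `z` lies in every normal subgroup of order divisible by four. -/
theorem z_mem_of_four (L : Subgroup G) [L.Normal] (h4 : 4 ∣ Nat.card L) : z ∈ L := by
  haveI : Fact (Nat.Prime 2) := ⟨Nat.prime_two⟩
  obtain ⟨Q, hQ⟩ := Sylow.exists_subgroup_card_pow_prime (G := L) 2 (n := 2) h4
  have hQp : IsPGroup 2 (Q.map L.subtype) := (IsPGroup.of_card hQ).map _
  obtain ⟨T, hT⟩ := hQp.exists_le_sylow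
  obtain ⟨g, hg⟩ := MulAction.exists_smul_eq G T S
  set R := (Q.map L.subtype).map (MulAut.conj g).toMonoidHom with hR
  have hRS : R ≤ (S : Subgroup G) := by
    rintro _ ⟨x, hx, rfl⟩
    rw [← hg]
    exact Subgroup.smul_mem_pointwise_smul _ (MulAut.conj g) (T : Subgroup G) (hT hx)
  have hRL : R ≤ L := by
    rintro _ ⟨_, ⟨x, -, rfl⟩, rfl⟩
    exact Subgroup.Normal.conj_mem inferInstance (x : G) x.2 g
  have hRc : Nat.card R = 4 := by
    rw [hR, Subgroup.card_map_of_injective (MulAut.conj g).injective,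
      Subgroup.card_map_of_injective L.subtype_injective, hQ]
    rfl
  -- `R` meets the component
  obtain ⟨w, hwR, hwX, hw1⟩ : ∃ w ∈ R, w ∈ P.comp z ∧ w ≠ 1 := by
    by_contra hno
    push Not at hno
    have hout : ∀ x ∈ R, x ≠ 1 → x ∉ P.comp z := fun x hx hx1 hX => hx1 (hno x hx hX)
    have hsub : (R : Set G).ncard ≤ 2 := by
      by_cases hx : ∃ x ∈ R, x ≠ 1
      · obtain ⟨x, hx, hx1⟩ := hx
        have : (R : Set G) ⊆ {1, x} := by
          intro y hy
          by_cases hy1 : y = 1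
          · exact Or.inl hy1
          refine Or.inr ?_
          have hm := P.mul_mem_of_not_typeTwo h.z_two h.z_notTwo (h.z_central y (hRS hy)) (hout y hy hy1)
            (h.z_central x (hRS hx)) (hout x hx hx1)
          rw [Set.mem_singleton_iff, ← mul_inv_eq_one, inv_eq_of_mul_eq_one_right (h.u_sq (hRS hx) (hout x hx hx1))]
          exact hno _ (mul_mem hy hx) hm
        exact (Set.ncard_le_ncard this (Set.toFinite _)).trans ((Set.ncard_insert_le _ _).trans (by simp))
      · push Not at hx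
        have : (R : Set G) ⊆ {1} := fun y hy => hx y hy
        exact (Set.ncard_le_ncard this (Set.toFinite _)).trans (by simp)
    rw [← Nat.card_coe_set_eq, show Nat.card ((R : Set G) : Type u) = 4 from hRc] at hsub
    omega
  obtain ⟨j, -, hj⟩ := (Nat.dvd_prime_pow Nat.prime_two).1
    ((Subgroup.orderOf_dvd_natCard R hwR).trans (dvd_of_eq (hRc.trans (show (4 : ℕ) = 2 ^ 2 from rfl))))
  rcases j with _ | j
  · exact absurd (orderOf_eq_one_iff.1 (hj.trans (pow_zero 2))) hw1
  have hwj : orderOf (w ^ 2 ^ j) = 2 := by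
    rw [orderOf_pow_of_dvd (by positivity) (hj ▸ pow_dvd_pow 2 j.le_succ), hj, pow_succ,
      Nat.mul_div_cancel_left _ (by positivity)]
  exact h.unique_invol hs hI ⟨pow_mem (hRS hwR) _, pow_mem hwX _⟩ hwj ▸ pow_mem (hRL hwR) _

/-- The conclusion in the dihedral case. -/
theorem oddType (hM : GorensteinWalter.PropMain.{u}) : OddType G := by
  haveI : Fact (Nat.Prime 2) := ⟨Nat.prime_two⟩
  obtain ⟨n, hn, hS⟩ := h.dihedral hs hI
  have hD : GorensteinWalter.HasDihedralSylow G := fun T => ⟨n, hn, hS.map fun e => (Sylow.equiv T S).trans e⟩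
  rcases GWConsumers70.dihedralAlmost hM G (hs.core inferInstance ZStar.Elements.oddCore_odd) S n hn hS with
    hp | hA | ⟨⟨e⟩⟩
  · exfalso
    obtain ⟨g, hg⟩ := hs.ne
    haveI : Nontrivial G := ⟨⟨g, 1, hg⟩⟩
    haveI := hp.center_nontrivial
    exact (Subgroup.nontrivial_iff_ne_bot _).1 inferInstance (hs.noAbelian (Subgroup.center G)
      inferInstance ⟨⟨fun a b => Subtype.ext (Subgroup.mem_center_iff.1 b.2 a)⟩⟩)
  rotate_left
  · -- not `A₇`
    exfalso
    obtain ⟨x, y, hx2, hx4, hy3, hy1, hyx, hne⟩ := alt_seven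
    set X := e.symm x
    set Y := e.symm y
    have hXX : X * X ≠ 1 := fun e' => hx2 (e.symm.injective (by rw [map_mul, map_one]; exact e'))
    have ht : orderOf (X * X) = 2 := orderOf_of_sq hXX (by rw [← map_mul, ← map_mul, hx4, map_one])
    have hY1 : Y ≠ 1 := fun e' => hy1 (e.symm.injective (by rw [map_one]; exact e'))
    have hY : orderOf Y = 3 := by
      haveI : Fact (Nat.Prime 3) := ⟨Nat.prime_three⟩
      refine orderOf_eq_prime ?_ hY1
      rw [show Y ^ 3 = Y * Y * Y by rw [pow_succ, sq], ← map_mul, ← map_mul, hy3, map_one]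
    have hYc : Y * (X * X) = X * X * Y := by rw [← map_mul, ← map_mul, hyx, ← map_mul]
    have hX1 : X ≠ 1 := fun e' => hXX (by rw [e', one_mul])
    have hXm : X ∈ P.comp (X * X) := by
      rw [P.eq_comp hX1 (mul_mem (P.mem X) (P.mem X)) hXX]
      exact P.mem X
    have hYm : Y ∈ P.comp (X * X) := by
      rw [P.comp_eq_of_commute hXX hY1 hYc.symm (by omega)]
      exact P.mem Y
    exact hne (e.symm.injective (by
      rw [map_mul, map_mul]
      exact P.comm_of_not_typeOne ht (hI _ ht) (mul_assoc X X X).symm hXm hYc hYm))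
  obtain ⟨F, iF, iFF, hF, K, hK, ⟨e⟩⟩ := hA
  have hodd : ringChar F ≠ 2 := fun hc => by
    have := FiniteField.even_card_of_char_two hc
    rw [← Nat.not_even_iff_odd, Nat.even_iff] at hF
    exact hF this
  have hqo := Nat.odd_iff.1 hF
  -- the inner part
  set π : G →* MulAut (Matrix.ProjectiveSpecialLinearGroup (Fin 2) F) := K.subtype.comp e.toMonoidHom with hπ
  have hπinj : Function.Injective π := K.subtype_injective.comp e.injective
  set c : Matrix.ProjectiveSpecialLinearGroup (Fin 2) F →* MulAut (Matrix.ProjectiveSpecialLinearGroup (Fin 2) F) :=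
    MulAut.conj with hc
  set L := c.range.comap π with hLdef
  haveI hLn : L.Normal := by
    refine Subgroup.Normal.comap ⟨?_⟩ π
    rintro _ ⟨p, rfl⟩ φ
    refine ⟨φ p, ?_⟩
    ext q
    simp [hc, MulAut.conj_apply]
  have hcardP : 2 * Nat.card (Matrix.ProjectiveSpecialLinearGroup (Fin 2) F) =
      Fintype.card F * (Fintype.card F - 1) * (Fintype.card F + 1) :=
    Linear.two_mul_card_PSL_two_of_odd hF
  have hπsurj : ∀ p, ∃ g : G, π g = c p := fun p =>
    ⟨e.symm ⟨c p, hK ⟨p, rfl⟩⟩, by simp [hπ]⟩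
  have h3 : Fintype.card F ≠ 3 := by
    intro hq
    rw [hq] at hcardP
    -- twelve elements, so solvable
    have hP12 : Nat.card (Matrix.ProjectiveSpecialLinearGroup (Fin 2) F) = 2 ^ 2 * 3 := by omega
    haveI := Cfsg.Agent.S0061.result 2 3 2 Nat.prime_two Nat.prime_three hP12
    haveI : Group.IsSolvable c.range := Group.isSolvable_of_surjective c.rangeRestrict_surjective
    let ι : L →* c.range := (π.comp L.subtype).codRestrict c.range fun x => x.2
    haveI : Group.IsSolvable L := Group.isSolvable_of_isSolvable_injective (f := ι) fun a b hab =>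
      Subtype.ext (hπinj (show π a = π b from congrArg (Subtype.val : c.range → _) hab))
    have hL := hs.solvable_bot L
    have hc1 : ∀ p, c p = 1 := fun p => by
      obtain ⟨g, hg⟩ := hπsurj p
      have : g ∈ L := ⟨p, hg.symm⟩
      rw [hL, Subgroup.mem_bot] at this
      rw [← hg, this, map_one]
    refine psl_not_comm (F := F) fun p q => ?_
    exact mul_inv_eq_iff_eq_mul.1 (DFunLike.congr_fun (hc1 p) q)
  have h5 : 5 ≤ Fintype.card F := by
    have := Fintype.one_lt_card (α := F)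
    omega
  haveI : IsSimpleGroup (Matrix.ProjectiveSpecialLinearGroup (Fin 2) F) :=
    Linear.isSimpleGroup_PSL (F := F) (le_refl 2) fun _ => by rw [Nat.card_eq_fintype_card]; omega
  have hcinj : Function.Injective c := by
    rw [← MonoidHom.ker_eq_bot_iff]
    refine (IsSimpleGroup.eq_bot_or_eq_top_of_normal _ (MonoidHom.normal_ker c)).resolve_right fun ht => ?_
    exact psl_not_comm (F := F) fun p q => mul_inv_eq_iff_eq_mul.1
      (DFunLike.congr_fun (MonoidHom.mem_ker.1 (ht ▸ Subgroup.mem_top p : p ∈ c.ker)) q)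
  let ι : L →* c.range := (π.comp L.subtype).codRestrict c.range fun x => x.2
  have hι : Function.Bijective ι := by
    refine ⟨fun a b hab => Subtype.ext (hπinj (show π a = π b from congrArg (Subtype.val : c.range → _) hab)), ?_⟩
    rintro ⟨_, p, rfl⟩
    obtain ⟨g, hg⟩ := hπsurj p
    exact ⟨⟨g, p, hg.symm⟩, Subtype.ext hg⟩
  let el : L ≃* Matrix.ProjectiveSpecialLinearGroup (Fin 2) F :=
    (MulEquiv.ofBijective ι hι).trans (MonoidHom.ofInjective hcinj).symm
  have hL4 : 4 ∣ Nat.card L := by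
    rw [Nat.card_congr el.toEquiv]
    obtain ⟨k, hk⟩ := hF
    rw [hk, show 2 * k + 1 - 1 = 2 * k by omega] at hcardP
    obtain ⟨r, hr⟩ : 2 ∣ k * (k + 1) := (Nat.even_mul_succ_self k).two_dvd
    refine ⟨(2 * k + 1) * r, ?_⟩
    apply Nat.eq_of_mul_eq_mul_left two_pos
    rw [hcardP]
    calc (2 * k + 1) * (2 * k) * (2 * k + 1 + 1) = 4 * (2 * k + 1) * (k * (k + 1)) := by ring
      _ = _ := by rw [hr]; ring
  have hC : Subgroup.centralizer (L : Set G) = ⊥ := by
    rw [Subgroup.eq_bot_iff_forall]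
    intro x hx
    apply hπinj
    rw [map_one]
    refine MulEquiv.ext fun q => hcinj ?_
    obtain ⟨g, hg⟩ := hπsurj q
    have hxg : g * x = x * g := Subgroup.mem_centralizer_iff.1 hx g ⟨q, hg.symm⟩
    have h1 : c (π x q) = π x * c q * (π x)⁻¹ := by
      ext r
      simp [hc, MulAut.conj_apply]
    rw [h1, ← hg, ← map_mul, ← hxg, map_mul, mul_inv_cancel_right, MulAut.one_apply, hg]
  set φ := autHom L el with hφ
  have hφinj := autHom_injective L el hC
  have hlin : ∀ v : G, v * v = 1 → ∃ g : GL (Fin 2) F, φ v = conjAut g :=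
    fun v hv => exists_linear L el hodd hC hD hv
  set R := (conjAut : GL (Fin 2) F →* MulAut (Matrix.ProjectiveSpecialLinearGroup (Fin 2) F)).range.comap φ
    with hR
  have hLR : L ≤ R := by
    intro l hl
    obtain ⟨s, hs'⟩ := QuotientGroup.mk_surjective (el ⟨l, hl⟩)
    exact ⟨Matrix.SpecialLinearGroup.toGL s, by rw [hφ, conjAut_toGL, hs', autHom_of_mem L el ⟨l, hl⟩]⟩
  have hinvR : ∀ v : G, v * v = 1 → v ∈ R := fun v hv => by
    obtain ⟨g, hg⟩ := hlin v hv
    exact ⟨g, hg.symm⟩
  have hSR : (S : Subgroup G) ≤ R := by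
    intro x hx
    by_cases hxX : x ∈ P.comp z
    · have hux : u * x ∉ P.comp z := fun h' => h.u_notMem (by simpa using mul_mem h' (inv_mem hxX))
      have := mul_mem (hinvR u (h.u_sq h.u_mem h.u_notMem))
        (hinvR _ (h.u_sq (mul_mem h.u_mem hx) hux))
      rwa [← mul_assoc, h.u_sq h.u_mem h.u_notMem, one_mul] at this
    · exact hinvR x (h.u_sq hx hxX)
  have hsq : ∀ g : G, g * g ∈ L := by
    intro g
    have hzL := h.z_mem_of_four hs hI L hL4
    have hz' : orderOf (g * z * g⁻¹) = 2 := (Part.orderOf_conj' g z).trans h.z_two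
    obtain ⟨p, hp⟩ := psl_conj hodd (a := el ⟨z, hzL⟩) (b := el ⟨g * z * g⁻¹, hLn.conj_mem z hzL g⟩)
      (by rw [el.orderOf_eq, Subgroup.orderOf_mk]; exact h.z_two)
      (by rw [el.orderOf_eq, Subgroup.orderOf_mk]; exact hz')
    obtain ⟨⟨l, hl⟩, rfl⟩ := el.surjective p
    rw [← map_inv, ← map_mul, ← map_mul] at hp
    have hl' : l * z * l⁻¹ = g * z * g⁻¹ := congrArg Subtype.val (el.injective hp)
    set k := l⁻¹ * g with hk
    have hkz : k * z = z * k := by
      calc k * z = l⁻¹ * (g * z * g⁻¹) * g := by rw [hk]; group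
        _ = z * k := by rw [← hl', hk]; group
    have hkk : k * k ∈ L := by
      by_cases hkX : k ∈ P.comp z
      · obtain ⟨gu, hgu⟩ := hlin u (h.u_sq h.u_mem h.u_notMem)
        have h1 := commutator_mem L el hodd hC hgu k
        have h2 := P.inverts h.z_two (h.z_central u h.u_mem) h.u_notMem
          ((show Commute k z from hkz).inv_left).eq (inv_mem hkX)
        rw [show k * u * k⁻¹ * u⁻¹ = k * (u * k⁻¹ * u⁻¹) by group, h2, inv_inv] at h1
        exact h1
      · rw [P.sq_of_not_mem h.z_two hkz hkX]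
        exact one_mem L
    have e1 : g * g = l * (k * l * k⁻¹) * (k * k) := by rw [hk]; group
    rw [e1]
    exact mul_mem (mul_mem hl (hLn.conj_mem l hl k)) hkk
  haveI hRn : R.Normal := ⟨fun r hr g => by
    rw [show g * r * g⁻¹ = g * r * (g * r) * r⁻¹ * (g * g)⁻¹ by group]
    exact mul_mem (mul_mem (hLR (hsq _)) (inv_mem hr)) (inv_mem (hLR (hsq g)))⟩
  have hRtop : ∀ g : G, g ∈ R := by
    intro g
    rw [← QuotientGroup.eq_one_iff, ← orderOf_eq_one_iff]
    have h1 : orderOf (g : G ⧸ R) ∣ 2 := orderOf_dvd_of_pow_eq_one (by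
      rw [sq, ← QuotientGroup.mk_mul, QuotientGroup.eq_one_iff]
      exact hLR (hsq g))
    refine ((Nat.dvd_prime Nat.prime_two).1 h1).resolve_right fun h2 => ?_
    refine S.not_dvd_index (dvd_trans ?_ (Subgroup.index_dvd_of_le hSR))
    rw [← h2, Subgroup.index_eq_card]
    exact orderOf_dvd_natCard _
  by_cases hsqdet : ∀ (x : G) (g : GL (Fin 2) F), φ x = conjAut g → IsSquare ((g.det : Fˣ) : F)
  · left
    refine ⟨F, iF, iFF, by omega, ⟨(MulEquiv.ofBijective L.subtype ⟨L.subtype_injective, fun x => ?_⟩).symm.trans el⟩⟩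
    obtain ⟨g, hg⟩ := hRtop x
    obtain ⟨r, hr⟩ := hsqdet x g hg.symm
    have hr0 : r ≠ 0 := fun h0 => (GeneralLinearGroup.det g).ne_zero (by rw [hr, h0, mul_zero])
    obtain ⟨p, hp⟩ := exists_inner_of_det (d := g) (c := Units.mk0 r hr0) (Units.ext (by simpa using hr))
    refine ⟨el.symm p, hφinj ?_⟩
    rw [← hg, hp]
    show φ ((el.symm p : L) : G) = _
    rw [hφ, autHom_of_mem, MulEquiv.apply_symm_apply]
  · right
    push Not at hsqdet
    obtain ⟨x₀, g₀, hg₀, hns⟩ := hsqdet
    let ψ : G →* (conjAut : GL (Fin 2) F →* MulAut (Matrix.ProjectiveSpecialLinearGroup (Fin 2) F)).range :=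
      φ.codRestrict _ fun x => hRtop x
    have hψ : Function.Bijective ψ := by
      refine ⟨fun a b hab => hφinj (congrArg Subtype.val hab), ?_⟩
      rintro ⟨_, g, rfl⟩
      have main : ∀ g : GL (Fin 2) F, IsSquare ((g.det : Fˣ) : F) → ∃ x : G, φ x = conjAut g := by
        rintro g ⟨r, hr⟩
        have hr0 : r ≠ 0 := fun h0 => (GeneralLinearGroup.det g).ne_zero (by rw [hr, h0, mul_zero])
        obtain ⟨p, hp⟩ := exists_inner_of_det (d := g) (c := Units.mk0 r hr0) (Units.ext (by simpa using hr))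
        exact ⟨(el.symm p : L), by rw [hp, hφ, autHom_of_mem, MulEquiv.apply_symm_apply]⟩
      by_cases hg : IsSquare ((g.det : Fˣ) : F)
      · obtain ⟨x, hx⟩ := main g hg
        exact ⟨x, Subtype.ext hx⟩
      · obtain ⟨x, hx⟩ := main (g * g₀) (by
          rw [map_mul, Units.val_mul]
          exact isSquare_mul_of_not hodd (Units.ne_zero _) (Units.ne_zero _) hg hns)
        refine ⟨x * x₀⁻¹, Subtype.ext ?_⟩
        show φ (x * x₀⁻¹) = conjAut g
        rw [map_mul, map_inv, hx, hg₀, map_mul, mul_inv_cancel_right]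
    have hker : (conjAut : GL (Fin 2) F →* MulAut (Matrix.ProjectiveSpecialLinearGroup (Fin 2) F)).ker =
        Subgroup.center (GL (Fin 2) F) := by
      refine le_antisymm (fun g hg => ?_) fun g hg => conjAut_eq_one_of_center hg
      obtain ⟨r, hr⟩ := exists_scalar_of_conjAut_eq_one (le_refl 2) (MonoidHom.mem_ker.1 hg)
      refine mem_center_GL_of_scalar (c := (r : F)) ?_
      rw [hr]
      simp [Matrix.smul_one_eq_diagonal, GeneralLinearGroup.coe_scalar, Matrix.scalar_apply]
    exact ⟨F, iF, iFF, h5, hF, ⟨(MulEquiv.ofBijective ψ hψ).trans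
      ((QuotientGroup.quotientKerEquivRange _).symm.trans (QuotientGroup.quotientMulEquivOfEq hker))⟩⟩

end Three

end Cfsg.Agent.Lib.Partition73
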