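import Cfsg.Agent.Lib.Partition73.Basic
import Cfsg.Agent.Lib.GorensteinWalter.Basic

/-!
# Partitions: centralisers of involutions

For an involution `t` either `C(t)` lies in the component (type one), or `C(t)` is elementary abelian
(type two), or `C(t) ∩ comp t` is abelian of index two, inverted by the outside elements.
-/

set_option autoImplicit false
set_option linter.style.haveILetI false
set_option linter.unusedSectionVars false

namespace Cfsg.Agent.Lib.Partition73

universe u

variable {G : Type u} [Group G]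

/-- `C(t)` has exponent two. -/
def TypeTwo (t : G) : Prop := ∀ c : G, c * t = t * c → c * c = 1

namespace Part

variable (P : Part G) {t : G}

/-- `C(t)` lies in the component of `t`. -/
def TypeOne (t : G) : Prop := ∀ c : G, c * t = t * c → c ∈ P.comp t

theorem conj_ne_one {g : G} (b : G) (hg : g ≠ 1) : b * g * b⁻¹ ≠ 1 := fun e => hg (conj_eq_one_iff.1 e)

theorem conj_commute {c t : G} (g : G) (h : c * t = t * c) :
    g * c * g⁻¹ * (g * t * g⁻¹) = g * t * g⁻¹ * (g * c * g⁻¹) := by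
  rw [show g * c * g⁻¹ * (g * t * g⁻¹) = g * (c * t) * g⁻¹ by group, h]; group

omit [Group G] in
theorem orderOf_conj' {G : Type u} [Group G] (g t : G) : orderOf (g * t * g⁻¹) = orderOf t :=
  MulEquiv.orderOf_eq (MulAut.conj g) t

variable {P}

theorem TypeOne.conj (h : P.TypeOne t) (ht : t ≠ 1) (g : G) : P.TypeOne (g * t * g⁻¹) := by
  intro c hc
  have h1 := conj_commute g⁻¹ hc
  rw [show g⁻¹ * (g * t * g⁻¹) * g⁻¹⁻¹ = t by group] at h1
  have := P.conj_mem g ht (h _ h1)
  rwa [show g * (g⁻¹ * c * g⁻¹⁻¹) * g⁻¹ = c by group] at this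

theorem conj_typeTwo (h : TypeTwo t) (g : G) : TypeTwo (g * t * g⁻¹) := by
  intro c hc
  have h1 := conj_commute g⁻¹ hc
  rw [show g⁻¹ * (g * t * g⁻¹) * g⁻¹⁻¹ = t by group] at h1
  have := h _ h1
  calc c * c = g * (g⁻¹ * c * g⁻¹⁻¹ * (g⁻¹ * c * g⁻¹⁻¹)) * g⁻¹ := by group
    _ = 1 := by rw [this]; group

variable (P) [Finite G]

theorem sq_of_not_mem (ht : orderOf t = 2) {c : G} (hc : c * t = t * c) (hn : c ∉ P.comp t) :
    c * c = 1 := by
  have ht1 : t ≠ 1 := fun e => by rw [e, orderOf_one] at ht; omega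
  have hc1 : c ≠ 1 := fun e => hn (e ▸ one_mem _)
  obtain ⟨-, h2⟩ := P.prime_of_commute ht1 hc1 hc.symm (fun e => hn (e ▸ P.mem c))
  rw [ht] at h2
  rw [← sq, ← h2, pow_orderOf_eq_one]

theorem inverts (ht : orderOf t = 2) {c m : G} (hc : c * t = t * c) (hn : c ∉ P.comp t)
    (hmt : m * t = t * m) (hm : m ∈ P.comp t) : c * m * c⁻¹ = m⁻¹ := by
  have hcm : c * m ∉ P.comp t := fun h => hn (by simpa using mul_mem h (inv_mem hm))
  have h1 := P.sq_of_not_mem ht ((show Commute c t from hc).mul_left hmt).eq hcm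
  rw [inv_eq_of_mul_eq_one_right (P.sq_of_not_mem ht hc hn)]
  exact eq_inv_of_mul_eq_one_left (by rw [← h1]; group)

theorem comm_of_not_typeOne (ht : orderOf t = 2) (hI : ¬ P.TypeOne t) {m m' : G}
    (hmt : m * t = t * m) (hm : m ∈ P.comp t) (hmt' : m' * t = t * m') (hm' : m' ∈ P.comp t) :
    m * m' = m' * m := by
  unfold TypeOne at hI
  push Not at hI
  obtain ⟨c, hc, hn⟩ := hI
  have h1 := P.inverts ht hc hn ((show Commute m t from hmt).mul_left hmt').eq (mul_mem hm hm')
  have h2 : c * (m * m') * c⁻¹ = m⁻¹ * m'⁻¹ := by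
    rw [← P.inverts ht hc hn hmt hm, ← P.inverts ht hc hn hmt' hm']; group
  rw [h1, mul_inv_rev] at h2
  have h3 := congrArg (fun x => x⁻¹) h2
  simpa [mul_inv_rev] using h3

theorem mul_mem_of_not_typeTwo (ht : orderOf t = 2) (hII : ¬ TypeTwo t) {c c' : G}
    (hc : c * t = t * c) (hn : c ∉ P.comp t) (hc' : c' * t = t * c') (hn' : c' ∉ P.comp t) :
    c * c' ∈ P.comp t := by
  by_contra hcc
  apply hII
  intro m hm
  by_cases hmX : m ∈ P.comp t
  · have h1 := P.inverts ht ((show Commute c t from hc).mul_left hc').eq hcc hm hmX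
    have hmi : m⁻¹ * t = t * m⁻¹ := ((show Commute m t from hm).inv_left).eq
    have h2 : c * c' * m * (c * c')⁻¹ = m := by
      calc c * c' * m * (c * c')⁻¹ = c * (c' * m * c'⁻¹) * c⁻¹ := by group
        _ = m := by rw [P.inverts ht hc' hn' hm hmX, P.inverts ht hc hn hmi (inv_mem hmX), inv_inv]
    exact mul_eq_one_iff_eq_inv.2 (h2.symm.trans h1)
  · exact P.sq_of_not_mem ht hm hmX

/-- Type one spreads along commuting involutions. -/
theorem typeOne_of_commute {z : G} (h : P.TypeOne t) (ht : orderOf t = 2) (hz : orderOf z = 2)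
    (hc : z * t = t * z) : P.comp z = P.comp t ∧ P.TypeOne z := by
  have ht1 : t ≠ 1 := fun e => by rw [e, orderOf_one] at ht; omega
  have hz1 : z ≠ 1 := fun e => by rw [e, orderOf_one] at hz; omega
  have he := P.eq_comp ht1 (h z hc) hz1
  refine ⟨he, fun c hcz => by_contra fun hn => hn ?_⟩
  have htz : t ∈ P.comp z := he ▸ P.mem t
  have h1 := P.inverts hz hcz hn hc.symm htz
  rw [inv_eq_of_mul_eq_one_right (show t * t = 1 by rw [← sq, ← ht, pow_orderOf_eq_one])] at h1
  exact he ▸ h c (mul_inv_eq_iff_eq_mul.1 h1)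

omit [Group G] [Finite G] in
/-- An involution centralises an involution central in a Sylow 2-subgroup through it. -/
theorem exists_central {G : Type u} [Group G] [Finite G] {t : G} (ht : orderOf t = 2) :
    ∃ (S : Sylow 2 G) (z : G), t ∈ (S : Subgroup G) ∧ z ∈ (S : Subgroup G) ∧ orderOf z = 2 ∧
      ∀ x ∈ (S : Subgroup G), x * z = z * x := by
  haveI : Fact (Nat.Prime 2) := ⟨Nat.prime_two⟩
  obtain ⟨S, hS⟩ := (IsPGroup.of_card (G := Subgroup.zpowers t) (n := 1)
    (by rw [Nat.card_zpowers, ht, pow_one])).exists_le_sylow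
  have htS := hS (Subgroup.mem_zpowers t)
  obtain ⟨z, hz, hz2, hzc⟩ := GorensteinWalter.exists_central_involution S.2 (fun e => by
    rw [e, Subgroup.mem_bot] at htS
    rw [htS, orderOf_one] at ht
    omega)
  exact ⟨S, z, htS, hz, hz2, hzc⟩

/-- All involutions are of type one or none is. -/
theorem typeOne_all (h : P.TypeOne t) (ht : orderOf t = 2) {t' : G} (ht' : orderOf t' = 2) :
    P.TypeOne t' := by
  haveI : Fact (Nat.Prime 2) := ⟨Nat.prime_two⟩
  obtain ⟨S, z, htS, -, hz, hzc⟩ := exists_central ht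
  obtain ⟨hcomp, hzI⟩ := P.typeOne_of_commute h ht hz (hzc t htS).symm
  obtain ⟨T, hT⟩ := (IsPGroup.of_card (G := Subgroup.zpowers t') (n := 1)
    (by rw [Nat.card_zpowers, ht', pow_one])).exists_le_sylow
  obtain ⟨g, hg⟩ := MulAction.exists_smul_eq G T S
  have hgt : g * t' * g⁻¹ ∈ (S : Subgroup G) := by
    rw [← hg]
    exact Subgroup.smul_mem_pointwise_smul _ (MulAut.conj g) (T : Subgroup G)
      (hT (Subgroup.mem_zpowers t'))
  have h' := (P.typeOne_of_commute hzI hz ((orderOf_conj' g t').trans ht')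
    (hzc _ hgt)).2.conj (fun e => by
      have := (orderOf_conj' g t').trans ht'
      rw [e, orderOf_one] at this
      omega) g⁻¹
  rwa [show g⁻¹ * (g * t' * g⁻¹) * g⁻¹⁻¹ = t' by group] at h'

end Part

end Cfsg.Agent.Lib.Partition73
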