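import Cfsg.Agent.S0205
import Cfsg.Agent.Lib.Cores.Basic
import Cfsg.Agent.Lib.Cores.MinNormal
import Mathlib.GroupTheory.Sylow
import Mathlib.Algebra.BigOperators.Group.Finset.Basic

/-!
# Actions with fixed-point-free p'-elements and p-elements of norm one
-/

set_option autoImplicit false
set_option linter.style.haveILetI false

namespace Cfsg.Agent.Lib.Partition73

/-- The hypotheses: `Q` acts on the `p`-group `V` of exponent `p`, elements of order prime to `p` act
without fixed points, the others have order `p` and norm one. -/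
structure NormAct {Q V : Type*} [Group Q] [CommGroup V] (p : ℕ) (φ : Q →* MulAut V) : Prop where
  exp : ∀ v : V, v ^ p = 1
  free : ∀ w : Q, w ≠ 1 → ¬ p ∣ orderOf w → ∀ v, φ w v = v → v = 1
  sing : ∀ y : Q, p ∣ orderOf y → orderOf y = p
  norm : ∀ y : Q, orderOf y = p → ∀ v, ∏ i ∈ Finset.range p, φ (y ^ i) v = 1

namespace NormAct

variable {Q V : Type*} [Group Q] [Finite Q] [CommGroup V] [Finite V] [Nontrivial V] {p : ℕ}
  [hp : Fact p.Prime] {φ : Q →* MulAut V}

omit [Finite Q] [Finite V] [Nontrivial V] in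
theorem not_commute (h : NormAct p φ) {y w : Q} (hy : orderOf y = p) (hw : ¬ p ∣ orderOf w)
    (hc : y * w = w * y) : w = 1 := by
  have hcop : (orderOf y).Coprime (orderOf w) := hy ▸ hp.out.coprime_iff_not_dvd.2 hw
  have hmul := Commute.orderOf_mul_eq_mul_orderOf_of_coprime hc hcop
  have h1 := h.sing (y * w) (by rw [hmul, hy]; exact dvd_mul_right p _)
  rw [hmul, hy] at h1
  exact orderOf_eq_one_iff.1 ((Nat.mul_eq_left hp.out.ne_zero).1 h1)

omit [Finite V] in
/-- A `p`-element normalises no non-trivial `p'`-subgroup. -/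
theorem eq_bot_of_normalized (h : NormAct p φ) {W : Subgroup Q} (hW : ¬ p ∣ Nat.card W) {y : Q}
    (hy : orderOf y = p) (hn : y ∈ Subgroup.normalizer (W : Set Q)) : W = ⊥ := by
  classical
  by_contra hne
  obtain ⟨w₀, hw₀, hw₀1⟩ := W.bot_or_exists_ne_one.resolve_left hne
  have hW' : ∀ w ∈ W, ¬ p ∣ orderOf w := fun w hw hd =>
    hW (hd.trans (W.orderOf_dvd_natCard hw))
  haveI := Fintype.ofFinite W
  obtain ⟨v, hv⟩ := exists_ne (1 : V)
  apply hv
  let N : V → V := fun u => ∏ w : W, φ (w : Q) u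
  have hN : ∀ u, N u = 1 := by
    intro u
    refine h.free w₀ hw₀1 (hW' w₀ hw₀) _ ?_
    show φ w₀ (∏ w : W, φ (w : Q) u) = ∏ w : W, φ (w : Q) u
    rw [map_prod]
    exact Fintype.prod_equiv (Equiv.mulLeft (⟨w₀, hw₀⟩ : W)) _ _ fun w => by simp
  have hz : ∀ i : ℕ, y ^ i ∈ Subgroup.normalizer (W : Set Q) := fun i => pow_mem hn i
  have hterm : ∀ i ∈ Finset.range p, ∏ w : W, φ (((w : Q) * y * (w : Q)⁻¹) ^ i) v =
      if i = 0 then v ^ Nat.card W else 1 := by
    intro i hi
    rcases eq_or_ne i 0 with rfl | hi0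
    · simp [Nat.card_eq_fintype_card]
    rw [if_neg hi0, ← hN (φ (y ^ i) v)]
    let g : W → W := fun w => ⟨(w : Q) * (y ^ i * (w : Q)⁻¹ * (y ^ i)⁻¹),
      mul_mem w.2 ((Subgroup.mem_normalizer_iff.1 (hz i) _).1 (inv_mem w.2))⟩
    have hg : Function.Injective g := by
      intro a b hab
      have e : (a : Q) * (y ^ i * (a : Q)⁻¹ * (y ^ i)⁻¹) = (b : Q) * (y ^ i * (b : Q)⁻¹ * (y ^ i)⁻¹) :=
        congrArg Subtype.val hab
      have hc : y ^ i * ((b : Q)⁻¹ * a) = ((b : Q)⁻¹ * a) * y ^ i := by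
        simp only [← mul_assoc] at e
        have e1 := mul_right_cancel e
        calc y ^ i * ((b : Q)⁻¹ * a) = (b : Q)⁻¹ * ((b : Q) * y ^ i * (b : Q)⁻¹) * a := by group
          _ = (b : Q)⁻¹ * ((a : Q) * y ^ i * (a : Q)⁻¹) * a := by rw [e1]
          _ = ((b : Q)⁻¹ * a) * y ^ i := by group
      have hord : orderOf (y ^ i) = p := by
        rw [orderOf_pow, hy, Nat.Coprime.gcd_eq_one, Nat.div_one]
        exact hp.out.coprime_iff_not_dvd.2 fun hd =>
          hi0 (Nat.eq_zero_of_dvd_of_lt hd (Finset.mem_range.1 hi))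
      exact Subtype.ext
        (inv_mul_eq_one.1 (h.not_commute hord (hW' _ (mul_mem (inv_mem b.2) a.2)) hc)).symm
    refine Fintype.prod_bijective g (Finite.injective_iff_bijective.1 hg) _ _ fun w => ?_
    rw [← MulAut.mul_apply, ← map_mul, conj_pow]
    congr 2
    simp [g, mul_assoc]
  have htot : ∏ i ∈ Finset.range p, ∏ w : W, φ (((w : Q) * y * (w : Q)⁻¹) ^ i) v = 1 := by
    rw [Finset.prod_comm]
    exact Finset.prod_eq_one fun w _ => h.norm _ (by
      rw [← hy]; exact (MulAut.conj (w : Q)).orderOf_eq y) v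
  rw [Finset.prod_congr rfl hterm, Finset.prod_ite_eq' (Finset.range p) 0,
    if_pos (Finset.mem_range.2 hp.out.pos)] at htot
  have h1 : orderOf v ∣ 1 := (hp.out.coprime_iff_not_dvd.2 hW).symm.gcd_eq_one ▸
    Nat.dvd_gcd (orderOf_dvd_of_pow_eq_one htot) (orderOf_dvd_of_pow_eq_one (h.exp v))
  exact orderOf_eq_one_iff.1 (Nat.dvd_one.1 h1)

/-- The Sylow `p`-subgroup is normal. -/
theorem sylow_normal (h : NormAct p φ) (P : Sylow p Q) : (P : Subgroup Q).Normal := by
  classical
  obtain ⟨v₀, hv₀⟩ := exists_ne (1 : V)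
  have hKp : IsPGroup p φ.ker := by
    intro ⟨k, hk⟩
    by_cases hk1 : k = 1
    · exact ⟨0, Subtype.ext (by simp [hk1])⟩
    have hd : p ∣ orderOf k := by
      by_contra hd
      exact hv₀ (h.free k hk1 hd v₀ (by rw [MonoidHom.mem_ker.1 hk]; rfl))
    exact ⟨1, Subtype.ext (by simp [← h.sing k hd, pow_orderOf_eq_one])⟩
  have hKP : φ.ker ≤ (P : Subgroup Q) := (Cores.le_pCore hKp).trans (Cores.pCore_le_sylow P)
  have hout : ∀ y ∈ (P : Subgroup Q), y ≠ 1 → orderOf y = p := by
    intro y hy hy1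
    obtain ⟨k, hk⟩ := P.isPGroup' ⟨y, hy⟩
    refine h.sing y ?_
    have hd : orderOf y ∣ p ^ k := orderOf_dvd_of_pow_eq_one (congrArg Subtype.val hk)
    obtain ⟨j, -, hj⟩ := (Nat.dvd_prime_pow hp.out).1 hd
    rcases Nat.eq_zero_or_pos j with rfl | hj0
    · exact absurd (orderOf_eq_one_iff.1 (by rw [hj, pow_zero])) hy1
    · rw [hj]; exact dvd_pow_self p hj0.ne'
  have finish : (P : Subgroup Q) ≤ φ.ker → (P : Subgroup Q).Normal := fun hle => by
    rw [le_antisymm hle hKP]; infer_instance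
  by_cases hp2 : p = 2
  · subst hp2
    refine finish fun y hy => ?_
    by_cases hy1 : y = 1
    · rw [hy1]; exact one_mem _
    rw [MonoidHom.mem_ker]
    refine MulEquiv.ext fun v => ?_
    have := h.norm y (hout y hy hy1) v
    rw [Finset.prod_range_succ, Finset.prod_range_one, pow_zero, pow_one, map_one, MulAut.one_apply] at this
    rw [MulAut.one_apply, eq_inv_of_mul_eq_one_right this, inv_eq_of_mul_eq_one_right]
    rw [← sq, h.exp]
  by_cases hev : 2 ∣ Nat.card Q
  · obtain ⟨j, hj⟩ := exists_prime_orderOf_dvd_card' (G := Q) 2 hev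
    have hpj : ¬ p ∣ orderOf j := by
      rw [hj]; exact fun hd => hp2 ((Nat.prime_dvd_prime_iff_eq hp.out Nat.prime_two).1 hd)
    have hj1 : j ≠ 1 := fun e => by simp [e] at hj
    have hjj : j * j = 1 := by rw [← sq, ← hj, pow_orderOf_eq_one]
    have hinv : ∀ v, φ j v = v⁻¹ := by
      intro v
      refine eq_inv_of_mul_eq_one_right (h.free j hj1 hpj _ ?_)
      rw [map_mul, ← MulAut.mul_apply, ← map_mul, hjj, map_one, MulAut.one_apply, mul_comm]
    have hjc : ∀ g, φ (g * j * g⁻¹) = φ j := fun g => MulEquiv.ext fun v => by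
      rw [map_mul, map_mul, MulAut.mul_apply, MulAut.mul_apply, hinv, map_inv (φ g),
        ← MulAut.mul_apply, ← map_mul, mul_inv_cancel, map_one, MulAut.one_apply, hinv]
    refine finish fun y hy => ?_
    by_contra hyK
    -- move `y` inside its coset to an element commuting with `j`
    set k := j * (y⁻¹ * j * y⁻¹⁻¹) with hkdef
    have hkK : k ∈ φ.ker := by
      rw [MonoidHom.mem_ker, hkdef, map_mul, hjc, ← map_mul, hjj, map_one]
    have hjk : j * k * (j * k) = 1 := by
      rw [hkdef]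
      calc j * (j * (y⁻¹ * j * y⁻¹⁻¹)) * (j * (j * (y⁻¹ * j * y⁻¹⁻¹)))
          = (j * j) * y⁻¹ * j * y * (j * j) * y⁻¹ * j * y := by group
        _ = 1 := by rw [hjj]; simp only [one_mul, mul_one]
                    calc y⁻¹ * j * y * y⁻¹ * j * y = y⁻¹ * (j * j) * y := by group
                      _ = 1 := by rw [hjj]; group
    obtain ⟨e, he⟩ : ∃ e, k = (k ^ e) * (k ^ e) := by
      obtain ⟨m, hm⟩ := hKp ⟨k, hkK⟩
      have hodd : Odd (p ^ m) := (hp.out.odd_of_ne_two hp2).pow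
      obtain ⟨i, hi⟩ := hodd
      refine ⟨i + 1, ?_⟩
      rw [← pow_add, show i + 1 + (i + 1) = p ^ m + 1 by omega, pow_succ]
      rw [show k ^ p ^ m = 1 from congrArg Subtype.val hm, one_mul]
    set m := k ^ e with hmdef
    have hmK : m ∈ φ.ker := pow_mem hkK e
    have hjm : j * m * j = m⁻¹ := by
      have hjkj : j * k * j⁻¹ = k⁻¹ := by
        rw [inv_eq_of_mul_eq_one_right hjj]
        exact eq_inv_of_mul_eq_one_left (by rw [← hjk]; group)
      have := congrArg (· ^ e) hjkj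
      simp only [conj_pow, inv_pow, ← hmdef] at this
      rwa [inv_eq_of_mul_eq_one_right hjj] at this
    have hyj : y⁻¹ * j * y = m⁻¹ * j * m := by
      calc y⁻¹ * j * y = (j * j) * y⁻¹ * j * y := by rw [hjj, one_mul]
        _ = j * k := by rw [hkdef]; group
        _ = j * m * (1 * m) := by rw [he, one_mul, mul_assoc]
        _ = j * m * (j * j) * m := by rw [hjj]; group
        _ = (j * m * j) * j * m := by group
        _ = m⁻¹ * j * m := by rw [hjm]
    set y' := y * m⁻¹ with hy'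
    have hc : y' * j = j * y' := by
      calc y' * j = y * (m⁻¹ * j * m) * m⁻¹ := by rw [hy']; group
        _ = y * (y⁻¹ * j * y) * m⁻¹ := by rw [hyj]
        _ = j * y' := by rw [hy']; group
    have hφ : φ y' = φ y := by rw [hy', map_mul, map_inv, MonoidHom.mem_ker.1 hmK, inv_one, mul_one]
    by_cases hd : p ∣ orderOf y'
    · exact hj1 (h.not_commute (h.sing y' hd) hpj hc)
    · apply hyK
      rw [MonoidHom.mem_ker, ← orderOf_eq_one_iff]
      have hy1 : y ≠ 1 := fun e => hyK (e ▸ one_mem _)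
      refine Nat.eq_one_of_dvd_coprimes ((hp.out.coprime_iff_not_dvd.2 hd)) ?_ ?_
      · exact hout y hy hy1 ▸ orderOf_map_dvd φ y
      · exact hφ ▸ orderOf_map_dvd φ y'
  -- odd order: solvable
  haveI : Group.IsSolvable Q := S0205.result (Nat.odd_iff.2 (by omega))
  set P0 := Cfsg.pCore p Q with hP0
  haveI : P0.Normal := by rw [hP0]; infer_instance
  have hP0P : P0 ≤ (P : Subgroup Q) := Cores.pCore_le_sylow P
  by_cases hPP : (P : Subgroup Q) ≤ P0
  · rw [le_antisymm hPP hP0P]; infer_instance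
  exfalso
  haveI : Nontrivial (Q ⧸ P0) := by
    rw [QuotientGroup.nontrivial_iff]
    exact fun e => hPP (e ▸ le_top)
  obtain ⟨M, hM, hM1, hmin⟩ := Cores.MinNormal.exists_minimal (G := Q ⧸ P0)
  haveI := hM
  obtain ⟨r, hr, hMr⟩ := (Cores.MinNormal.elementary_of_solvable hM1 hmin).2
  haveI := Fact.mk hr
  have hMpg : IsPGroup r M := Cores.MinNormal.isPGroup_of_pow_eq_one hMr
  by_cases hrp : r = p
  · subst hrp
    exact hM1 (le_bot_iff.1 (Cores.pCore_quotient_pCore (G := Q) r ▸ Cores.le_pCore hMpg))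
  set M' := M.comap (QuotientGroup.mk' P0) with hM'
  haveI : M'.Normal := by rw [hM']; infer_instance
  obtain ⟨R⟩ := (inferInstance : Nonempty (Sylow r M'))
  obtain ⟨y, hy, hy0⟩ := Set.not_subset.1 hPP
  have htop := Sylow.normalizer_sup_eq_top R
  have hmem : y ∈ ((Subgroup.normalizer ((R : Subgroup M').map M'.subtype : Set Q) ⊔ M' :
      Subgroup Q) : Set Q) := by rw [htop]; trivial
  rw [Subgroup.mul_normal] at hmem
  obtain ⟨n, hn, m, hm, hnm⟩ := Set.mem_mul.1 hmem
  have hyord : orderOf y = p := hout y hy fun e => hy0 (e ▸ one_mem P0)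
  have hyM : y ∉ M' := fun hyM => by
    obtain ⟨k, hk⟩ := hMpg ⟨_, Subgroup.mem_comap.1 hyM⟩
    have hd : orderOf (QuotientGroup.mk' P0 y) ∣ 1 := by
      rw [← ((Nat.coprime_primes hr hp.out).2 hrp).pow_left k]
      exact Nat.dvd_gcd (orderOf_dvd_of_pow_eq_one (congrArg Subtype.val hk))
        ((orderOf_map_dvd _ y).trans hyord.dvd)
    exact hy0 ((QuotientGroup.eq_one_iff y).1 (orderOf_eq_one_iff.1 (Nat.dvd_one.1 hd)))
  have hnp : p ∣ orderOf n := by
    have e : QuotientGroup.mk' M' n = QuotientGroup.mk' M' y := by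
      rw [← hnm, map_mul, show QuotientGroup.mk' M' m = 1 from (QuotientGroup.eq_one_iff m).2 hm,
        mul_one]
    have hord : orderOf (QuotientGroup.mk' M' y) = p :=
      ((Nat.dvd_prime hp.out).1 ((orderOf_map_dvd _ y).trans hyord.dvd)).resolve_left fun e1 =>
        hyM ((QuotientGroup.eq_one_iff y).1 (orderOf_eq_one_iff.1 e1))
    rw [← hord, ← e]
    exact orderOf_map_dvd _ n
  set R' := (R : Subgroup M').map M'.subtype with hR'
  have hR'p : IsPGroup r R' := R.isPGroup'.map _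
  have hR'c : ¬ p ∣ Nat.card R' := fun hd => by
    obtain ⟨k, hk⟩ := IsPGroup.iff_card.1 hR'p
    exact hrp ((Nat.prime_dvd_prime_iff_eq hp.out hr).1 (hp.out.dvd_of_dvd_pow (hk ▸ hd))).symm
  have hbot := h.eq_bot_of_normalized hR'c (h.sing n hnp) hn
  have hrM : r ∣ Nat.card M' := by
    obtain ⟨k, hk⟩ := IsPGroup.iff_card.1 hMpg
    have hk0 : k ≠ 0 := fun e => hM1 (Subgroup.card_eq_one.1 (by rw [hk, e, pow_zero]))
    refine (show r ∣ Nat.card M from hk ▸ dvd_pow_self r hk0).trans ?_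
    have := Subgroup.card_map_dvd (H := M') (QuotientGroup.mk' P0)
    rwa [hM', Subgroup.map_comap_eq_self_of_surjective (QuotientGroup.mk'_surjective P0)] at this
  exact R.ne_bot_of_dvd_card hrM ((Subgroup.map_eq_bot_iff_of_injective _ M'.subtype_injective).1 hbot)

end NormAct

end Cfsg.Agent.Lib.Partition73
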