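import Cfsg.Agent.Lib.Partition73.Dihedral

/-!
# Groups with a partition

The classification, given the Gorenstein–Walter proposition.
-/

set_option autoImplicit false
set_option linter.style.haveILetI false
set_option linter.unusedSectionVars false

namespace Cfsg.Agent.Lib.Partition73

universe u

variable {G : Type u} [Group G] [Finite G]

/-- The semisimple case. -/
theorem SemiHyp.cases {P : Part G} (h : SemiHyp P) (hM : GorensteinWalter.PropMain.{u}) :
    EvenType G ∨ OddType G := by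
  by_cases hone : ∃ t : G, orderOf t = 2 ∧ P.TypeOne t
  · obtain ⟨t, ht, hI⟩ := hone
    exact Or.inl (h.allOne fun t' ht' => P.typeOne_all hI ht ht')
  push Not at hone
  by_cases htwo : ∀ t : G, orderOf t = 2 → TypeTwo t
  · exact Or.inl (h.allTwo htwo)
  push Not at htwo
  obtain ⟨t, ht, hII⟩ := htwo
  obtain ⟨S, z, u, h3⟩ := exists_three hone ht hII
  exact Or.inr (h3.oddType h hone hM)

/-- Groups with a non-trivial partition. -/
theorem classify (hM : GorensteinWalter.PropMain.{u}) (P : Part G) (hne : ∃ g : G, g ≠ 1) :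
    Nonempty (G ≃* Equiv.Perm (Fin 4)) ∨ IsHughes G ∨ (∃ H : Subgroup G, Cfsg.IsFrobeniusComplement H) ∨
      EvenType G ∨ OddType G := by
  classical
  by_cases hn : ∃ g : G, g ≠ 1 ∧ (P.comp g).Normal
  · obtain ⟨g, hg, hgn⟩ := hn
    haveI := hgn
    rcases P.of_normal hg with h | h
    · exact Or.inr (Or.inl h)
    · exact Or.inr (Or.inr (Or.inl h))
  push Not at hn
  have hP : P.NoNormal := hn
  by_cases hab : ∀ N : Subgroup G, N.Normal → IsMulCommutative N → N = ⊥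
  · rcases (SemiHyp.mk hP hab hne).cases hM with h | h
    · exact Or.inr (Or.inr (Or.inr (Or.inl h)))
    · exact Or.inr (Or.inr (Or.inr (Or.inr h)))
  push Not at hab
  obtain ⟨N, hN, hNc, hN1⟩ := hab
  haveI : Nontrivial N := (Subgroup.nontrivial_iff_ne_bot N).2 hN1
  obtain ⟨p, hp, hpd⟩ := Nat.exists_prime_and_dvd (show Nat.card N ≠ 1 from
    fun e => hN1 (Subgroup.eq_bot_of_card_eq N e))
  haveI := Fact.mk hp
  have hcomm : ∀ a ∈ N, ∀ b ∈ N, a * b = b * a := fun a ha b hb =>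
    congrArg Subtype.val (hNc.is_comm.comm (⟨a, ha⟩ : N) ⟨b, hb⟩)
  let E : Subgroup G :=
    { carrier := {a | a ∈ N ∧ a ^ p = 1}
      one_mem' := ⟨one_mem N, one_pow p⟩
      mul_mem' := fun {a b} ha hb => ⟨mul_mem ha.1 hb.1, by
        rw [(show Commute a b from hcomm a ha.1 b hb.1).mul_pow, ha.2, hb.2, one_mul]⟩
      inv_mem' := fun {a} ha => ⟨inv_mem ha.1, by rw [inv_pow, ha.2, inv_one]⟩ }
  haveI : E.Normal := ⟨fun a ha g => ⟨hN.conj_mem a ha.1 g, by
    rw [conj_pow, ha.2, mul_one, mul_inv_cancel]⟩⟩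
  haveI : IsMulCommutative E := ⟨⟨fun a b => Subtype.ext (hcomm a a.2.1 b b.2.1)⟩⟩
  have hE : E ≠ ⊥ := by
    obtain ⟨x, hx⟩ := exists_prime_orderOf_dvd_card' p hpd
    intro e
    have hmem : (x : G) ∈ E := ⟨x.2, by rw [← hx, ← Subgroup.orderOf_coe]; exact pow_orderOf_eq_one _⟩
    rw [e, Subgroup.mem_bot] at hmem
    rw [← Subgroup.orderOf_coe, hmem, orderOf_one] at hx
    exact hp.one_lt.ne hx
  rcases P.of_abelian E hP hE (fun v hv => hv.2) with h | h | h
  · exact Or.inr (Or.inl h)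
  · exact Or.inr (Or.inr (Or.inl h))
  · exact Or.inl h

/-- The statement of S4248. -/
theorem main (hM : GorensteinWalter.PropMain.{u}) (S : Set (Subgroup G))
    (hS2 : ∃ H ∈ S, ∃ K ∈ S, H ≠ K) (hS1 : ∀ H ∈ S, H ≠ ⊥)
    (hpart : ∀ g : G, g ≠ 1 → ∃! H : Subgroup G, H ∈ S ∧ g ∈ H) :
    Nonempty (G ≃* Equiv.Perm (Fin 4)) ∨
    (∃ p : ℕ, p.Prime ∧ Subgroup.closure {g : G | g ^ p ≠ 1} ≠ ⊤) ∨
    (∃ H : Subgroup G, Cfsg.IsFrobeniusComplement H) ∨
    (∃ (F : Type) (_ : Field F) (_ : Fintype F), 4 ≤ Fintype.card F ∧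
        Nonempty (G ≃* Matrix.ProjectiveSpecialLinearGroup (Fin 2) F)) ∨
    (∃ (F : Type) (_ : Field F) (_ : Fintype F), 5 ≤ Fintype.card F ∧ Odd (Fintype.card F) ∧
        Nonempty (G ≃* (GL (Fin 2) F ⧸ Subgroup.center (GL (Fin 2) F)))) ∨
    Cfsg.Lie.IsoSuzuki G := by
  obtain ⟨P⟩ := exists_part S hS2 hS1 hpart
  obtain ⟨H, hH, -⟩ := hS2
  obtain ⟨g, -, hg⟩ := H.bot_or_exists_ne_one.resolve_left (hS1 H hH)
  rcases classify hM P ⟨g, hg⟩ with h | h | h | (h | h) | (h | h)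
  exacts [Or.inl h, Or.inr (Or.inl h), Or.inr (Or.inr (Or.inl h)), Or.inr (Or.inr (Or.inr (Or.inl h))),
    Or.inr (Or.inr (Or.inr (Or.inr (Or.inr h)))), Or.inr (Or.inr (Or.inr (Or.inl h))),
    Or.inr (Or.inr (Or.inr (Or.inr (Or.inl h))))]

end Cfsg.Agent.Lib.Partition73
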