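import Cfsg.Agent.Lib.Partition73.Act
import Cfsg.Agent.Lib.Fgs9.Criterion
import Cfsg.Agent.Lib.Frobenius.Nilpotent
import Cfsg.Agent.Lib.Cores.Basic

/-!
# Partitions with a normal component
-/

set_option autoImplicit false
set_option linter.style.haveILetI false

namespace Cfsg.Agent.Lib.Partition73

open Fgs9

universe u

variable {G : Type u} [Group G]

namespace Part

variable (P : Part G) {g : G}

/-- An element of a normal component commuting with an outside element centralises its component,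
which has prime exponent. -/
theorem centralizes_of_commute [Finite G] (hg : g ≠ 1) [hn : (P.comp g).Normal] {x y : G}
    (hy : y ∉ P.comp g) (hx : x ∈ P.comp g) (hx1 : x ≠ 1) (hc : y * x = x * y) {w : G}
    (hw : w ∈ P.comp y) : x * w = w * x ∧ (w ≠ 1 → orderOf w = orderOf x) := by
  have hy1 : y ≠ 1 := fun e => hy (e ▸ one_mem _)
  have hne : P.comp g ≠ P.comp y := fun e => hy (e ▸ P.mem y)
  have hxn := P.mem_normalizer_of_commute hy1 (P.mem y) hy1 hc.symm
  have h1 : x * w * x⁻¹ * w⁻¹ = 1 := by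
    refine P.eq_one_of_mem_of_mem hg hy1 hne ?_ (mul_mem ((Subgroup.mem_normalizer_iff.1 hxn w).1 hw) (inv_mem hw))
    rw [show x * w * x⁻¹ * w⁻¹ = x * (w * x⁻¹ * w⁻¹) by group]
    exact mul_mem hx (hn.conj_mem _ (inv_mem hx) w)
  have hcw : x * w = w * x := mul_inv_eq_iff_eq_mul.1 (mul_inv_eq_one.1 h1)
  refine ⟨hcw, fun hw1 => (P.prime_of_commute hx1 hw1 hcw ?_).2⟩
  rw [P.eq_comp hg hx hx1, P.eq_comp hy1 hw hw1]
  exact hne

/-- A normal component is nilpotent if an outside element commutes with one of its elements. -/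
theorem isNilpotent_of_normal [Finite G] (hg : g ≠ 1) [hn : (P.comp g).Normal] {y : G}
    (hy : y ∉ P.comp g) : Group.IsNilpotent (P.comp g) := by
  classical
  set X := P.comp g with hX
  by_cases hf : ∃ z : G, z ∉ X ∧ ∀ x ∈ X, z * x = x * z → x = 1
  · obtain ⟨z, hz, hzf⟩ := hf
    have hz1 : z ≠ 1 := fun e => hz (e ▸ one_mem _)
    obtain ⟨r, hr, hrd⟩ := Nat.exists_prime_and_dvd (fun e => hz1 (orderOf_eq_one_iff.1 e))
    set z0 := z ^ (orderOf z / r) with hz0
    have hord : orderOf z0 = r := by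
      rw [hz0, orderOf_pow_of_dvd (Nat.div_pos (Nat.le_of_dvd (orderOf_pos z) hrd) hr.pos).ne'
        (Nat.div_dvd_of_dvd hrd), Nat.div_div_self hrd (orderOf_pos z).ne']
    have hz01 : z0 ≠ 1 := fun e => hr.ne_one (by rw [← hord, e, orderOf_one])
    have hcomp : P.comp z0 = P.comp z := P.comp_pow hz1 hz01
    have hz0X : z0 ∉ X := fun h => hz (by
      have : P.comp z = P.comp g := hcomp.symm.trans (P.eq_comp hg h hz01)
      rw [hX, ← this]; exact P.mem z)
    have hfix : ∀ x ∈ X, z0 * x = x * z0 → x = 1 := fun x hx hc => by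
      by_contra hx1
      exact hx1 (hzf x hx (P.centralizes_of_commute hg hz0X hx hx1 hc (hcomp ▸ P.mem z)).1.symm)
    have hit : ∀ (n : ℕ) (x : X), (((⇑(MulAut.conjNormal z0 : MulAut X))^[n] x : X) : G) =
        z0 ^ n * (x : G) * (z0 ^ n)⁻¹ := by
      intro n x
      induction n with
      | zero => simp
      | succ n ih => rw [Function.iterate_succ_apply', MulAut.conjNormal_apply, ih]; group
    refine Frobenius.Nilpotent.isNilpotent_of_fixedPointFree hr (MulAut.conjNormal z0)
      (fun x hx => Subtype.ext (hfix x x.2 (eq_of_conjNormal_fix X hx))) fun x => Subtype.ext ?_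
    rw [hit, ← hord, pow_orderOf_eq_one]
    simp
  push Not at hf
  -- every outside element has prime order, so `y` is a splitting element
  have hpr : ∀ w : G, w ∉ X → (orderOf w).Prime := fun w hw => by
    obtain ⟨x, hx, hc, hx1⟩ := hf w hw
    refine (P.prime_of_commute (fun e => hw (by rw [e]; exact one_mem X)) hx1 hc fun e => hw ?_).1
    rw [hX, ← P.eq_comp hg hx hx1, ← e]
    exact P.mem w
  set p := orderOf y with hp
  have hpp : p.Prime := hpr y hy
  set G' := X ⊔ Subgroup.zpowers y with hG'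
  set X' := X.subgroupOf G' with hX'
  have hne : X' ≠ ⊤ := fun e => hy (by
    have := (Subgroup.subgroupOf_eq_top.1 e) (Subgroup.mem_sup_right (Subgroup.mem_zpowers y))
    exact this)
  have key : ∀ w : G', w ∉ X' → w ^ p = 1 := by
    intro w hw
    have hmem : (w : G) ∈ ((Subgroup.zpowers y ⊔ X : Subgroup G) : Set G) := by
      rw [sup_comm]; exact w.2
    rw [Subgroup.mul_normal] at hmem
    obtain ⟨u, hu, x, hx, hux⟩ := Set.mem_mul.1 hmem
    obtain ⟨k, rfl⟩ := Subgroup.mem_zpowers_iff.1 hu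
    have hwX : (w : G) ∉ X := hw
    have him : QuotientGroup.mk' X (w : G) = QuotientGroup.mk' X y ^ k := by
      rw [← hux, map_mul, map_zpow, show QuotientGroup.mk' X x = 1 from (QuotientGroup.eq_one_iff x).2 hx,
        mul_one]
    have hpow : QuotientGroup.mk' X (w : G) ^ p = 1 := by
      rw [him, ← zpow_natCast, ← zpow_mul, mul_comm, zpow_mul, zpow_natCast, ← map_pow, hp,
        pow_orderOf_eq_one, map_one, one_zpow]
    haveI := Fact.mk hpp
    have hord : orderOf (QuotientGroup.mk' X (w : G)) = p :=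
      orderOf_eq_prime hpow fun e => hwX ((QuotientGroup.eq_one_iff _).1 e)
    have : p = orderOf (w : G) :=
      (Nat.prime_dvd_prime_iff_eq hpp (hpr _ hwX)).1 (hord ▸ orderOf_map_dvd _ _)
    exact Subtype.ext (by simp [this, pow_orderOf_eq_one])
  haveI : X'.Normal := Subgroup.normal_subgroupOf
  haveI := Splitting.isNilpotent Criterion.thompsonCriterion _ G' X' p hpp rfl hne key
  exact Group.nilpotent_of_mulEquiv (Subgroup.subgroupOfEquivOfLe (le_sup_left : X ≤ G'))

/-- An element whose image has order divisible by a prime `q` of `|X|` has order `q`. -/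
theorem order_eq_of_dvd [Finite G] (hg : g ≠ 1) [hn : (P.comp g).Normal] [Group.IsNilpotent (P.comp g)]
    {q : ℕ} (hq : q.Prime) (hqd : q ∣ Nat.card (P.comp g)) {w : G}
    (hw : q ∣ orderOf (w : G ⧸ P.comp g)) : orderOf w = q := by
  classical
  haveI := Fact.mk hq
  set X := P.comp g with hX
  have hwX : w ∉ X := fun h => hq.not_dvd_one (by
    rwa [(QuotientGroup.eq_one_iff w).2 h, orderOf_one] at hw)
  have hqw : q ∣ orderOf w := hw.trans (orderOf_map_dvd (QuotientGroup.mk' X) w)
  obtain ⟨e, m, hm, hem⟩ := Nat.exists_eq_pow_mul_and_not_dvd (orderOf_pos w).ne' q hq.ne_one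
  set u := w ^ m with hu
  have huX : u ∉ X := fun h => hm (hw.trans (orderOf_dvd_of_pow_eq_one (by
    rw [← QuotientGroup.mk_pow]; exact (QuotientGroup.eq_one_iff _).2 h)))
  have huq : IsPGroup q (Subgroup.zpowers u) := by
    refine IsPGroup.of_card (n := e) ?_
    rw [Nat.card_zpowers, hu, orderOf_pow, hem, Nat.gcd_eq_right (dvd_mul_left m _),
      Nat.mul_div_cancel _ (Nat.pos_of_ne_zero fun h => hm (by rw [h]; exact dvd_zero q))]
  obtain ⟨S⟩ := (inferInstance : Nonempty (Sylow q X))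
  haveI : (S : Subgroup X).Normal := S.normal_of_normalizerCondition
    Group.normalizerCondition_of_isNilpotent
  haveI := Sylow.characteristic_of_normal S inferInstance
  haveI : ((S : Subgroup X).map X.subtype).Normal := Cores.normal_map_subtype X (S : Subgroup X)
  obtain ⟨v, hv, hv1, hvc⟩ := exists_fixed_of_pGroup (S.isPGroup'.map X.subtype)
    (fun e => S.ne_bot_of_dvd_card hqd ((Subgroup.map_eq_bot_iff_of_injective _ X.subtype_injective).1 e)) huq
  have hvX : v ∈ X := Subgroup.map_subtype_le _ hv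
  have hu1 : u ≠ 1 := fun e => huX (e ▸ one_mem _)
  have hw1 : w ≠ 1 := fun e => hwX (e ▸ one_mem _)
  have hall := (P.centralizes_of_commute hg huX hvX hv1 (hvc u (Subgroup.mem_zpowers u))
    (P.comp_pow hw1 hu1 ▸ P.mem w)).2 hw1
  obtain ⟨k, hk⟩ := IsPGroup.iff_orderOf.1 (S.isPGroup'.map X.subtype) ⟨v, hv⟩
  rw [← Subgroup.orderOf_coe] at hk
  have hpr : (orderOf w).Prime := hall ▸ (P.prime_of_commute hv1 hu1 (hvc u (Subgroup.mem_zpowers u)).symm
    fun e => huX (by rw [hX, ← P.eq_comp hg hvX hv1, e]; exact P.mem u)).1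
  exact ((Nat.prime_dvd_prime_iff_eq hq hpr).1 hqw).symm

/-- A partition with a normal component gives a proper Hughes subgroup or a Frobenius group. -/
theorem of_normal [Finite G] (hg : g ≠ 1) [hn : (P.comp g).Normal] :
    IsHughes G ∨ ∃ H : Subgroup G, Cfsg.IsFrobeniusComplement H := by
  classical
  set X := P.comp g with hX
  have hX1 : X ≠ ⊥ := fun e => hg (Subgroup.mem_bot.1 (e ▸ P.mem g))
  have hXt : X ≠ ⊤ := P.ne_top hg
  by_cases hfr : ∀ x ∈ X, x ≠ 1 → ∀ z : G, z * x = x * z → z ∈ X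
  · exact .inr (exists_complement X hX1 hXt hfr)
  push Not at hfr
  obtain ⟨x₀, hx₀, hx₀1, y, hyc, hy⟩ := hfr
  haveI := P.isNilpotent_of_normal hg hy
  set p := orderOf x₀ with hp
  have hy1 : y ≠ 1 := fun e => hy (e ▸ one_mem _)
  have hdiff : P.comp x₀ ≠ P.comp y := fun e => hy (by
    rw [hX, ← P.eq_comp hg hx₀ hx₀1, e]; exact P.mem y)
  obtain ⟨hpp, hyp⟩ := P.prime_of_commute hx₀1 hy1 hyc.symm hdiff
  by_cases hH : ∀ w : G, w ∉ X → w ^ p = 1
  · exact .inl (isHughes_of_forall hpp X hXt hH)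
  -- the action of `G ⧸ X` on `Ω₁` of the `q`-part of the centre of `X`
  have hact : ∀ q : ℕ, q.Prime → q ∣ Nat.card X → ∃ (V : Type u) (_ : CommGroup V) (_ : Finite V)
      (_ : Nontrivial V) (φ : G ⧸ X →* MulAut V), NormAct q φ := by
    intro q hq hqd
    haveI := Fact.mk hq
    have ordq := fun w h => P.order_eq_of_dvd (w := w) hg hq hqd h
    let N : Subgroup G :=
      { carrier := {a | a ∈ X ∧ a ^ q = 1 ∧ ∀ x ∈ X, x * a = a * x}
        one_mem' := ⟨one_mem _, one_pow _, fun x _ => by simp⟩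
        mul_mem' := fun {a b} ha hb => ⟨mul_mem ha.1 hb.1, by
          rw [Commute.mul_pow (hb.2.2 a ha.1), ha.2.1, hb.2.1, mul_one],
          fun x hx => by rw [← mul_assoc, ha.2.2 x hx, mul_assoc, hb.2.2 x hx, mul_assoc]⟩
        inv_mem' := fun {a} ha => ⟨inv_mem ha.1, by rw [inv_pow, ha.2.1, inv_one],
          fun x hx => (Commute.inv_right (ha.2.2 x hx))⟩ }
    haveI hNn : N.Normal := ⟨fun a ha b => ⟨hn.conj_mem a ha.1 b, by rw [conj_pow, ha.2.1]; group,
      fun x hx => by
        have := ha.2.2 (b⁻¹ * x * b) (by simpa using hn.conj_mem x hx b⁻¹)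
        calc x * (b * a * b⁻¹) = b * (b⁻¹ * x * b * a) * b⁻¹ := by group
          _ = b * (a * (b⁻¹ * x * b)) * b⁻¹ := by rw [this]
          _ = b * a * b⁻¹ * x := by group⟩⟩
    haveI hNc : IsMulCommutative N :=
      ⟨⟨fun a b => Subtype.ext (b.2.2.2 (a : G) a.2.1)⟩⟩
    have hNp : IsPGroup q N := Cores.MinNormal.isPGroup_of_pow_eq_one fun a ha => ha.2.1
    haveI : Nontrivial N := by
      obtain ⟨S⟩ := (inferInstance : Nonempty (Sylow q X))
      haveI : (S : Subgroup X).Normal := S.normal_of_normalizerCondition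
        Group.normalizerCondition_of_isNilpotent
      obtain ⟨c, hc, hc1, hcc⟩ : ∃ c : X, orderOf c = q ∧ c ≠ 1 ∧ ∀ u : X, u * c = c * u := by
        obtain ⟨k, hk⟩ := IsPGroup.iff_card.1 S.isPGroup'
        have hS : (S : Subgroup X) ≠ ⊥ := S.ne_bot_of_dvd_card hqd
        obtain ⟨v, hv, hv1⟩ := ((S : Subgroup X) ⊓ Subgroup.center X).bot_or_exists_ne_one.resolve_left
          (inf_center_ne_bot hS)
        obtain ⟨j, hj⟩ := IsPGroup.iff_orderOf.1 S.isPGroup' ⟨v, hv.1⟩
        rw [← Subgroup.orderOf_coe] at hj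
        have hj0 : j ≠ 0 := fun e => hv1 (orderOf_eq_one_iff.1 (hj.trans (by rw [e, pow_zero])))
        refine ⟨v ^ (q ^ (j - 1)), ?_, ?_, fun u => (Commute.pow_right (Subgroup.mem_center_iff.1 hv.2 u) _)⟩
        · rw [orderOf_pow_of_dvd (pow_ne_zero _ hq.ne_zero) (hj ▸ pow_dvd_pow q (Nat.sub_le _ _)), hj,
            Nat.pow_div (Nat.sub_le _ _) hq.pos, show j - (j - 1) = 1 by omega, pow_one]
        · intro e
          have := hj ▸ orderOf_dvd_of_pow_eq_one e
          have := (Nat.pow_dvd_pow_iff_le_right hq.one_lt).1 this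
          omega
      refine ⟨⟨⟨(c : G), c.2, by rw [← hc, ← Subgroup.orderOf_coe, pow_orderOf_eq_one],
        fun x hx => congrArg Subtype.val (hcc ⟨x, hx⟩)⟩, 1, fun e => hc1 (Subtype.ext ?_)⟩⟩
      exact congrArg (fun a : N => (a : G)) e
    have hker : X ≤ (MulAut.conjNormal (H := N) : G →* MulAut N).ker := fun x hx => by
      refine MonoidHom.mem_ker.2 (MulEquiv.ext fun v => Subtype.ext ?_)
      rw [MulAut.conjNormal_apply, v.2.2.2 x hx, MulAut.one_apply]
      group
    open scoped IsMulCommutative in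
    refine ⟨N, inferInstance, inferInstance, inferInstance,
      QuotientGroup.lift X (MulAut.conjNormal (H := N)) hker, ⟨fun v => Subtype.ext v.2.2.1, ?_, ?_, ?_⟩⟩
    · intro w
      induction w using QuotientGroup.induction_on with
      | H w =>
        intro hw1 hqw v hv
        by_contra hv1
        have hwX : w ∉ X := fun h => hw1 ((QuotientGroup.eq_one_iff w).2 h)
        have ho := (P.centralizes_of_commute hg hwX v.2.1 (fun e => hv1 (Subtype.ext e))
          (eq_of_conjNormal_fix N hv) (P.mem w)).2 (fun e => hwX (e ▸ one_mem _))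
        have hvq : orderOf (v : G) = q := orderOf_eq_prime v.2.2.1 fun e => hv1 (Subtype.ext e)
        have hd : orderOf (w : G ⧸ X) ∣ q := (orderOf_map_dvd (QuotientGroup.mk' X) w).trans (ho.trans hvq).dvd
        rcases (Nat.dvd_prime hq).1 hd with h | h
        · exact hw1 (orderOf_eq_one_iff.1 h)
        · exact hqw h.symm.dvd
    · intro w
      induction w using QuotientGroup.induction_on with
      | H w =>
        intro hqw
        have hw : orderOf w = q := ordq w hqw
        exact ((Nat.dvd_prime hq).1 ((orderOf_map_dvd (QuotientGroup.mk' X) w).trans hw.dvd)).resolve_left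
          fun e => hq.not_dvd_one (e ▸ hqw)
    · intro w
      induction w using QuotientGroup.induction_on with
      | H w =>
        intro hw v
        refine (Finset.prod_congr rfl fun i _ => ?_).trans
          (norm_eq_one_of_pow N (ordq w hw.symm.dvd ▸ pow_orderOf_eq_one w) (fun v => ?_) v)
        · rw [← QuotientGroup.mk_pow, QuotientGroup.lift_mk]
        · have : ((v : G) * w : G ⧸ X) = (w : G ⧸ X) := by
            rw [(QuotientGroup.eq_one_iff _).2 v.2.1, one_mul]
          rw [← ordq ((v : G) * w) (by rw [QuotientGroup.mk_mul, this, hw]), pow_orderOf_eq_one]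
  obtain ⟨V, _, _, _, φ, hφ⟩ := hact p hpp (hp ▸ X.orderOf_dvd_natCard hx₀)
  haveI := Fact.mk hpp
  obtain ⟨S⟩ := (inferInstance : Nonempty (Sylow p (G ⧸ X)))
  haveI hSn := hφ.sylow_normal S
  have hybar : orderOf (y : G ⧸ X) = p := orderOf_eq_prime
    (by rw [← QuotientGroup.mk_pow, hp, ← hyp, pow_orderOf_eq_one, QuotientGroup.mk_one])
    fun e => hy ((QuotientGroup.eq_one_iff y).1 e)
  have hmemS : ∀ w : G ⧸ X, orderOf w = p → w ∈ (S : Subgroup (G ⧸ X)) := fun w hw => by
    have hz : IsPGroup p (Subgroup.zpowers w) := IsPGroup.of_card (n := 1) (by rw [Nat.card_zpowers, hw, pow_one])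
    obtain ⟨T, hT⟩ := hz.exists_le_sylow
    have : T = S := Subsingleton.elim (α := Sylow p (G ⧸ X)) (h := @Unique.instSubsingleton _ (Sylow.unique_of_normal S hSn)) T S
    exact this ▸ hT (Subgroup.mem_zpowers w)
  have hG1 : (S : Subgroup (G ⧸ X)).comap (QuotientGroup.mk' X) ≠ ⊤ := by
    intro e
    refine hH fun w hw => ?_
    have hwS : (w : G ⧸ X) ∈ (S : Subgroup (G ⧸ X)) := (e ▸ Subgroup.mem_top w :)
    obtain ⟨k, hk⟩ := IsPGroup.iff_orderOf.1 S.isPGroup' ⟨_, hwS⟩
    rw [← Subgroup.orderOf_coe] at hk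
    have hw1 : (w : G ⧸ X) ≠ 1 := fun e => hw ((QuotientGroup.eq_one_iff w).1 e)
    have hk0 : k ≠ 0 := fun e => hw1 (orderOf_eq_one_iff.1 (hk.trans (by rw [e, pow_zero])))
    have ho : orderOf w = p := P.order_eq_of_dvd hg hpp (hp ▸ X.orderOf_dvd_natCard hx₀) (by rw [hk]; exact dvd_pow_self p hk0)
    rw [← ho, pow_orderOf_eq_one]
  refine .inr (exists_complement _ ?_ hG1 fun x hx hx1 z hz => ?_)
  · intro e
    exact hX1 (le_bot_iff.1 (e ▸ fun a ha => show (a : G ⧸ X) ∈ (S : Subgroup (G ⧸ X)) by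
      rw [(QuotientGroup.eq_one_iff a).2 ha]; exact one_mem _))
  show (z : G ⧸ X) ∈ (S : Subgroup (G ⧸ X))
  by_contra hzS
  have hz1' : (z : G ⧸ X) ≠ 1 := fun e => hzS (e ▸ one_mem _)
  have hpz : ¬ p ∣ orderOf (z : G ⧸ X) := fun hd => hzS (hmemS _ (hφ.sing _ hd))
  by_cases hxX : x ∈ X
  · -- the Sylow subgroup of the quotient is normalised by a `q`-element
    have hzX : z ∉ X := fun h => hz1' ((QuotientGroup.eq_one_iff z).2 h)
    have hz1 : z ≠ 1 := fun e => hzX (e ▸ one_mem _)
    obtain ⟨hq, hqo⟩ := P.prime_of_commute hx1 hz1 hz.symm fun e => hzX (by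
      rw [hX, ← P.eq_comp hg hxX hx1, e]; exact P.mem z)
    obtain ⟨V', _, _, _, ψ, hψ⟩ := hact (orderOf x) hq (X.orderOf_dvd_natCard hxX)
    haveI := Fact.mk hq
    have hzq : orderOf (z : G ⧸ X) = orderOf x :=
      ((Nat.dvd_prime hq).1 ((orderOf_map_dvd (QuotientGroup.mk' X) z).trans hqo.dvd)).resolve_left
        fun e => hz1' (orderOf_eq_one_iff.1 e)
    have hqp : ¬ orderOf x ∣ Nat.card (S : Subgroup (G ⧸ X)) := fun hd => by
      obtain ⟨k, hk⟩ := IsPGroup.iff_card.1 S.isPGroup'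
      exact hpz (by rw [hzq, (Nat.prime_dvd_prime_iff_eq hq hpp).1 (hq.dvd_of_dvd_pow (hk ▸ hd))])
    have hbot := hψ.eq_bot_of_normalized hqp hzq
      (by rw [Subgroup.normalizer_eq_top_iff.2 hSn]; trivial)
    have := hmemS _ hybar
    rw [hbot, Subgroup.mem_bot] at this
    exact hy ((QuotientGroup.eq_one_iff y).1 this)
  · have hx1' : (x : G ⧸ X) ≠ 1 := fun e => hxX ((QuotientGroup.eq_one_iff x).1 e)
    obtain ⟨k, hk⟩ := IsPGroup.iff_orderOf.1 S.isPGroup' ⟨_, hx⟩
    rw [← Subgroup.orderOf_coe] at hk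
    have hk0 : k ≠ 0 := fun e => hx1' (orderOf_eq_one_iff.1 (hk.trans (by rw [e, pow_zero])))
    refine hz1' (hφ.not_commute (hφ.sing _ (by rw [hk]; exact dvd_pow_self p hk0)) hpz ?_)
    exact congrArg (fun a : G => (a : G ⧸ X)) hz.symm

end Part

end Cfsg.Agent.Lib.Partition73
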