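import Cfsg.Agent.Lib.Partition73.NormalComp
import Cfsg.Agent.Lib.Cores.MinNormal
import Mathlib.Data.Fintype.Perm

/-!
# Partitions without normal component and with an abelian normal subgroup
-/

set_option autoImplicit false
set_option linter.style.haveILetI false

namespace Cfsg.Agent.Lib.Partition73

open scoped IsMulCommutative

universe u

variable {G : Type u} [Group G]

namespace Part

variable (P : Part G)

/-- `P` has no normal component. -/
def NoNormal : Prop := ∀ g : G, g ≠ 1 → ¬ (P.comp g).Normal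

variable [Finite G]

/-- A component meeting `N` cannot contain an element acting fixed-point-freely on `N`. -/
theorem not_mem_of_inf (hP : P.NoNormal) (N : Subgroup G) [N.Normal] [IsMulCommutative N] {g w a : G}
    (hg : g ≠ 1) (ha : a ∈ N) (haZ : a ∈ P.comp g) (ha1 : a ≠ 1) (hw : w ∈ P.comp g)
    (hfpf : ∀ v ∈ N, w * v = v * w → v = 1) : False := by
  have hN : N ≠ ⊥ := fun e => ha1 (Subgroup.mem_bot.1 (e ▸ ha))
  refine hP g hg (P.normal_of_le hg hN fun m hm => ?_)
  have hnor : ∀ m ∈ N, m ∈ Subgroup.normalizer (P.comp g : Set G) := fun m hm =>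
    P.mem_normalizer_of_commute hg haZ ha1 (congrArg Subtype.val (mul_comm' (⟨m, hm⟩ : N) ⟨a, ha⟩))
  let f : N → N := fun v => MulAut.conjNormal w v * v⁻¹
  have hf : Function.Injective f := by
    intro v v' h
    have h' : MulAut.conjNormal w (v⁻¹ * v') = v⁻¹ * v' := by
      have e1 : MulAut.conjNormal w v' = f v * v' := by rw [h]; simp [f]
      rw [map_mul, map_inv, e1]
      simp only [f]
      calc (MulAut.conjNormal w v)⁻¹ * (MulAut.conjNormal w v * v⁻¹ * v') = v⁻¹ * v' := by group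
        _ = _ := rfl
    have := hfpf _ (v⁻¹ * v').2 (eq_of_conjNormal_fix N h')
    exact inv_mul_eq_one.1 (Subtype.ext this)
  obtain ⟨v, hv⟩ := (Finite.injective_iff_surjective.1 hf) ⟨m, hm⟩
  have e : (w : G) * v * w⁻¹ * (v : G)⁻¹ = m := congrArg Subtype.val hv
  rw [← e, show w * (v : G) * w⁻¹ * (v : G)⁻¹ = w * ((v : G) * w⁻¹ * (v : G)⁻¹) by group]
  exact mul_mem hw ((Subgroup.mem_normalizer_iff.1 (hnor v v.2) _).1 (inv_mem hw))

variable {p : ℕ} [hp : Fact p.Prime] (N : Subgroup G) [N.Normal] [IsMulCommutative N]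

/-- `p'`-elements act without fixed points. -/
theorem fpf_of_not_dvd (hP : P.NoNormal) (hNp : ∀ v ∈ N, v ^ p = 1) {w : G} (hw1 : w ≠ 1)
    (hw : ¬ p ∣ orderOf w) {v : G} (hv : v ∈ N) (hc : w * v = v * w) : v = 1 := by
  by_contra hv1
  have hN : N ≠ ⊥ := fun e => hv1 (Subgroup.mem_bot.1 (e ▸ hv))
  have hvp : orderOf v = p := orderOf_eq_prime (hNp v hv) hv1
  have hvZ : v ∈ P.comp w := by
    rw [P.comp_eq_of_commute hw1 hv1 hc (fun e => hw (by rw [← e, hvp]))]
    exact P.mem v
  refine hP w hw1 (P.normal_of_le hw1 hN fun m hm => ?_)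
  have hmn : m ∈ Subgroup.normalizer (P.comp w : Set G) :=
    P.mem_normalizer_of_commute hw1 hvZ hv1 (congrArg Subtype.val (mul_comm' (⟨m, hm⟩ : N) ⟨v, hv⟩))
  set m' : N := ⟨m, hm⟩
  set k := orderOf w
  have hterm : ∀ i : ℕ, ((MulAut.conjNormal (w ^ i) m' * m'⁻¹ : N) : G) ∈ P.comp w := fun i => by
    show w ^ i * m * (w ^ i)⁻¹ * m⁻¹ ∈ P.comp w
    rw [show w ^ i * m * (w ^ i)⁻¹ * m⁻¹ = w ^ i * (m * (w ^ i)⁻¹ * m⁻¹) by group]
    exact mul_mem (P.pow_mem w i)
      ((Subgroup.mem_normalizer_iff.1 hmn _).1 (inv_mem (P.pow_mem w i)))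
  set u : N := ∏ i ∈ Finset.range k, MulAut.conjNormal (w ^ i) m' with hu
  have huZ : (u : G) ∈ P.comp w := by
    have hfix : MulAut.conjNormal w u = u := by
      have hk : 0 < k := orderOf_pos w
      obtain ⟨j, hj⟩ : ∃ j, k = j + 1 := ⟨k - 1, by omega⟩
      rw [hu, hj, map_prod]
      simp only [← MulAut.mul_apply, ← map_mul, ← pow_succ']
      rw [Finset.prod_range_succ, Finset.prod_range_succ', ← hj, pow_orderOf_eq_one, pow_zero]
    by_cases hu1 : (u : G) = 1
    · rw [hu1]; exact one_mem _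
    have hup : orderOf (u : G) = p := orderOf_eq_prime (hNp _ u.2) hu1
    rw [P.comp_eq_of_commute hw1 hu1 (eq_of_conjNormal_fix N hfix) (fun e => hw (by show p ∣ orderOf w; rw [← e, hup]))]
    exact P.mem _
  let ι : Subgroup N := (P.comp w).subgroupOf N
  have hprod : m' ^ k ∈ ι := by
    have h1 : ∏ i ∈ Finset.range k, (MulAut.conjNormal (w ^ i) m' * m'⁻¹) ∈ ι :=
      Subgroup.prod_mem ι fun i _ => hterm i
    rw [Finset.prod_mul_distrib, Finset.prod_const, Finset.card_range, ← hu, inv_pow] at h1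
    exact inv_mem_iff.1 ((Subgroup.mul_mem_cancel_left ι (show u ∈ ι from huZ)).1 h1)
  have hcop : (orderOf m').Coprime k := by
    refine Nat.Coprime.coprime_dvd_left ?_ (hp.out.coprime_iff_not_dvd.2 hw)
    exact orderOf_dvd_of_pow_eq_one (Subtype.ext (by simpa using hNp m hm))
  obtain ⟨j, hj⟩ := exists_pow_eq_self_of_coprime hcop.symm
  show m' ∈ ι
  rw [← hj]
  exact _root_.pow_mem hprod j

/-- An element of order divisible by `p` is a `p`-element. -/
theorem not_mixed (hP : P.NoNormal) (hN : N ≠ ⊥) (hNp : ∀ v ∈ N, v ^ p = 1) {w : G} (hw : p ∣ orderOf w) :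
    ∃ k, orderOf w = p ^ k := by
  obtain ⟨e, m, hm, hem⟩ := Nat.exists_eq_pow_mul_and_not_dvd (orderOf_pos w).ne' p hp.out.ne_one
  rcases eq_or_ne m 1 with rfl | hm1
  · exact ⟨e, by rw [hem, mul_one]⟩
  exfalso
  have hw1 : w ≠ 1 := fun h => by rw [h, orderOf_one] at hw; exact hp.out.not_dvd_one hw
  set y := w ^ m
  set w' := w ^ (p ^ e)
  have hw'o : orderOf w' = m := by
    rw [orderOf_pow_of_dvd (pow_ne_zero _ hp.out.ne_zero) (hem ▸ dvd_mul_right _ _), hem,
      Nat.mul_div_cancel_left _ (pow_pos hp.out.pos e)]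
  have hw'1 : w' ≠ 1 := fun h => hm1 (by rw [← hw'o, h, orderOf_one])
  have hyo : orderOf y = p ^ e := by
    rw [orderOf_pow_of_dvd (fun h => hm (by rw [h]; exact dvd_zero p)) (hem ▸ dvd_mul_left _ _), hem,
      Nat.mul_div_cancel _ (Nat.pos_of_ne_zero fun h => hm (by rw [h]; exact dvd_zero p))]
  obtain ⟨n, hn, hn1, hnc⟩ := exists_fixed_of_pGroup (Cores.MinNormal.isPGroup_of_pow_eq_one hNp) hN
    (show IsPGroup p (Subgroup.zpowers y) from IsPGroup.of_card (n := e) (by rw [Nat.card_zpowers, hyo]))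
  have he : e ≠ 0 := fun h => hm (by rwa [hem, h, pow_zero, one_mul] at hw)
  have hy1 : y ≠ 1 := fun h => he (by
    rw [h, orderOf_one] at hyo
    exact (Nat.pow_eq_one.1 hyo.symm).resolve_left hp.out.ne_one)
  have hw'Z : w' ∈ P.comp w := P.pow_mem w _
  have hnorm : n ∈ Subgroup.normalizer (P.comp w : Set G) :=
    P.mem_normalizer_of_commute hw1 (P.pow_mem w m) hy1 (hnc y (Subgroup.mem_zpowers y)).symm
  have hfpf : ∀ v ∈ N, w' * v = v * w' → v = 1 := fun v hv hc =>
    P.fpf_of_not_dvd N hP hNp hw'1 (hw'o.symm ▸ hm) hv hc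
  refine P.not_mem_of_inf hP N hw1
    (mul_mem ((‹N.Normal›).conj_mem n hn w') (inv_mem hn)) ?_ (fun h => hn1 ?_) hw'Z hfpf
  · rw [show w' * n * w'⁻¹ * n⁻¹ = w' * (n * w'⁻¹ * n⁻¹) by group]
    exact mul_mem hw'Z ((Subgroup.mem_normalizer_iff.1 hnorm _).1 (inv_mem hw'Z))
  · exact hfpf n hn (mul_inv_eq_iff_eq_mul.1 (mul_inv_eq_one.1 h))

/-- An element of order `p²` forces `p = 2` and `|N| = 4`. -/
theorem order_sq (hP : P.NoNormal) (hN : N ≠ ⊥) (hNp : ∀ v ∈ N, v ^ p = 1) {z : G}
    (hz : orderOf z = p ^ 2) : p = 2 ∧ Nat.card N = 4 := by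
  have hz1 : z ≠ 1 := fun h => by
    rw [h, orderOf_one] at hz
    exact absurd hz.symm (by have := hp.out.two_le; nlinarith)
  obtain ⟨a, ha, ha1, hac⟩ := exists_fixed_of_pGroup (Cores.MinNormal.isPGroup_of_pow_eq_one hNp) hN
    (show IsPGroup p (Subgroup.zpowers z) from IsPGroup.of_card (n := 2) (by rw [Nat.card_zpowers, hz]))
  have haZ : a ∈ P.comp z := by
    rw [P.comp_eq_of_commute hz1 ha1 (hac z (Subgroup.mem_zpowers z))
      (by rw [orderOf_eq_prime (hNp a ha) ha1, hz]; have := hp.out.two_le; nlinarith)]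
    exact P.mem a
  let A : Subgroup N := (P.comp z).subgroupOf N
  let f : N → N := fun v => ∏ i ∈ Finset.range p, MulAut.conjNormal (z ^ i) v
  have hfmul : ∀ v v', f (v * v') = f v * f v' := fun v v' => by
    simp only [f, map_mul, Finset.prod_mul_distrib]
  have hnor : ∀ v : N, (v : G) ∈ Subgroup.normalizer (P.comp z : Set G) := fun v =>
    P.mem_normalizer_of_commute hz1 haZ ha1 (congrArg Subtype.val (mul_comm' v ⟨a, ha⟩))
  have hfA : ∀ v, f v ∈ A := by
    intro v
    have h1 : ∏ i ∈ Finset.range p, (MulAut.conjNormal (z ^ i) v * v⁻¹) ∈ A := by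
      refine Subgroup.prod_mem A fun i _ => ?_
      show z ^ i * (v : G) * (z ^ i)⁻¹ * (v : G)⁻¹ ∈ P.comp z
      rw [show z ^ i * (v : G) * (z ^ i)⁻¹ * (v : G)⁻¹ = z ^ i * ((v : G) * (z ^ i)⁻¹ * (v : G)⁻¹) by group]
      exact mul_mem (P.pow_mem z i)
        ((Subgroup.mem_normalizer_iff.1 (hnor v) _).1 (inv_mem (P.pow_mem z i)))
    rw [Finset.prod_mul_distrib, Finset.prod_const, Finset.card_range, inv_pow,
      show v ^ p = 1 from Subtype.ext (by simpa using hNp v v.2), inv_one, mul_one] at h1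
    exact h1
  have hzp : z ^ p ≠ 1 := fun h => by
    have := hz ▸ orderOf_dvd_of_pow_eq_one h
    have := Nat.le_of_dvd hp.out.pos this
    have := hp.out.two_le
    nlinarith
  have hval : ∀ v, v ∉ A → (f v : G) * z ^ p = 1 := by
    intro v hv
    rw [← mul_pow_eq_norm]
    by_contra hne
    apply hv
    have hvz1 : (v : G) * z ≠ 1 := fun h => hne (by rw [h, one_pow])
    have e : P.comp ((v : G) * z) = P.comp z := by
      refine P.comp_eq_of_common hvz1 hz1 hne (P.pow_mem _ p) ?_
      rw [mul_pow_eq_norm]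
      exact mul_mem (hfA v) (P.pow_mem z p)
    show (v : G) ∈ P.comp z
    have := mul_mem (e ▸ P.mem ((v : G) * z) : (v : G) * z ∈ P.comp z) (inv_mem (P.mem z))
    rwa [mul_inv_cancel_right] at this
  have hclose : ∀ v v', v ∉ A → v' ∉ A → v * v' ∈ A := by
    intro v v' hv hv'
    by_contra hvv
    have e := hval _ hvv
    rw [hfmul, Subgroup.coe_mul, mul_assoc, hval v' hv', mul_one] at e
    exact hzp (by simpa [e] using hval v hv)
  obtain ⟨v₀, hv₀⟩ : ∃ v : N, v ∉ A := by
    by_contra h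
    push Not at h
    exact hP z hz1 (P.normal_of_le hz1 hN fun x hx => h ⟨x, hx⟩)
  have hp2 : p = 2 := by
    by_contra hp2
    apply hv₀
    obtain ⟨i, hi⟩ := hp.out.odd_of_ne_two hp2
    have h2 : (v₀ * v₀) ^ (i + 1) = v₀ := by
      rw [← sq, ← pow_mul, show 2 * (i + 1) = p + 1 by omega, pow_succ,
        show v₀ ^ p = 1 from Subtype.ext (by simpa using hNp v₀ v₀.2), one_mul]
    rw [← h2]
    exact _root_.pow_mem (hclose _ _ hv₀ hv₀) _
  subst hp2
  have hidx : A.index = 2 := Subgroup.index_eq_two_iff.2 ⟨v₀, fun v => by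
    by_cases hv : v ∈ A
    · exact .inr ⟨hv, fun h => hv₀ ((Subgroup.mul_mem_cancel_left A hv).1 h)⟩
    · exact .inl ⟨hclose v v₀ hv hv₀, hv⟩⟩
  have hA2 := A.card_mul_index
  rw [hidx] at hA2
  have hA1 : 2 ≤ Nat.card A := Finite.one_lt_card_iff_nontrivial.2 ((Subgroup.nontrivial_iff_ne_bot A).2
    fun h => ha1 (congrArg (fun x : N => (x : G)) (Subgroup.mem_bot.1 (h ▸ (show (⟨a, ha⟩ : N) ∈ A from haZ)))))
  refine ⟨rfl, ?_⟩
  by_contra h4
  apply hP z hz1
  refine P.normal_of_invariant hz1 fun b => ?_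
  let e : N ≃* N := MulAut.conjNormal b
  let B : Subgroup N := A.comap e.toMonoidHom
  have hB : Nat.card B = Nat.card A := Nat.card_congr (e.toEquiv.subtypeEquiv fun _ => Iff.rfl)
  obtain ⟨x, hxA, hxB, hx1⟩ : ∃ x, x ∈ A ∧ x ∈ B ∧ x ≠ 1 := by
    by_contra h
    push Not at h
    have hinj : Function.Injective (fun q : A × B => (q.1 : N) * q.2) := by
      intro q q' hq
      have h1 : (q'.1 : N)⁻¹ * q.1 = q'.2 * (q.2 : N)⁻¹ := by
        rw [eq_mul_inv_iff_mul_eq, mul_assoc, inv_mul_eq_iff_eq_mul]; exact hq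
      have h2 := h _ (mul_mem (inv_mem q'.1.2) q.1.2) (h1 ▸ mul_mem q'.2.2 (inv_mem q.2.2))
      exact Prod.ext (Subtype.ext (inv_mul_eq_one.1 h2).symm)
        (Subtype.ext (mul_inv_eq_one.1 (h1.symm.trans h2)).symm)
    have hle := Nat.card_le_card_of_injective _ hinj
    rw [Nat.card_prod, hB] at hle
    rcases Nat.lt_or_ge (Nat.card A) 3 with h3 | h3
    · exact h4 (by omega)
    · nlinarith
  exact ⟨(x : G), hxA, fun h => hx1 (Subtype.ext h), hxB⟩

/-- With a non-trivial abelian normal subgroup of exponent `p`. -/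
theorem of_abelian (hP : P.NoNormal) (hN : N ≠ ⊥) (hNp : ∀ v ∈ N, v ^ p = 1) :
    IsHughes G ∨ (∃ H : Subgroup G, Cfsg.IsFrobeniusComplement H) ∨
      Nonempty (G ≃* Equiv.Perm (Fin 4)) := by
  classical
  obtain ⟨v₀, hv₀, hv₀1⟩ := N.bot_or_exists_ne_one.resolve_left hN
  haveI : Nontrivial G := ⟨⟨v₀, 1, hv₀1⟩⟩
  by_cases hG : IsPGroup p G
  · haveI := hG.center_nontrivial
    obtain ⟨c, hc⟩ := exists_ne (1 : Subgroup.center G)
    exact .inl (P.isHughes_of_central (fun e => hc (Subtype.ext e)) (Subgroup.mem_center_iff.1 c.2))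
  by_cases hsq : ∃ z : G, orderOf z = p ^ 2
  · obtain ⟨z, hz⟩ := hsq
    obtain ⟨rfl, hN4⟩ := P.order_sq N hP hN hNp hz
    right; right
    set K := Subgroup.centralizer (N : Set G) with hK
    have hKc : ∀ k, k ∈ K ↔ ∀ v ∈ N, v * k = k * v := fun k => Subgroup.mem_centralizer_iff
    haveI : K.Normal := inferInstance
    have hKfree : ∀ k ∈ K, k ≠ 1 → 2 ∣ orderOf k := fun k hk hk1 => by
      by_contra hd
      exact hv₀1 (P.fpf_of_not_dvd N hP hNp hk1 hd hv₀ ((hKc k).1 hk v₀ hv₀).symm)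
    have hKexp : ∀ k ∈ K, k ^ 2 = 1 := by
      intro k hk
      by_contra h2
      have hk1 : k ≠ 1 := fun e => h2 (by rw [e, one_pow])
      refine hP k hk1 (P.normal_of_le hk1 hN fun v hv => ?_)
      by_cases hv1 : v = 1
      · rw [hv1]; exact one_mem _
      rw [P.comp_eq_of_commute hk1 hv1 ((hKc k).1 hk v hv).symm fun e => h2 (by
        rw [← orderOf_eq_prime (hNp v hv) hv1, e, pow_orderOf_eq_one])]
      exact P.mem v
    have hNK : N ≤ K := fun v hv => (hKc v).2 fun w hw =>
      congrArg Subtype.val (mul_comm' (⟨w, hw⟩ : N) ⟨v, hv⟩)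
    haveI : IsMulCommutative K := ⟨⟨fun a b => Subtype.ext (by
      have e := fun x : K => inv_eq_of_mul_eq_one_right (show (x : G) * x = 1 by rw [← sq, hKexp _ x.2])
      have := e (a * b)
      rw [Subgroup.coe_mul, mul_inv_rev, e a, e b] at this
      exact this.symm)⟩⟩
    have hKN : K = N := by
      refine (Subgroup.eq_of_le_of_card_ge hNK ?_).symm
      rw [hN4, (P.order_sq K hP (fun e => hv₀1 (Subgroup.mem_bot.1 (e ▸ hNK hv₀))) hKexp hz).2]
    -- the action on the three involutions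
    let φ : G →* MulAut N := MulAut.conjNormal
    have hker : φ.ker = N := by
      conv_rhs => rw [← hKN, hK]
      ext k
      simp only [φ, MonoidHom.mem_ker, Subgroup.mem_centralizer_iff, MulEquiv.ext_iff, MulAut.one_apply,
        Subtype.ext_iff, MulAut.conjNormal_apply, mul_inv_eq_iff_eq_mul]
      exact ⟨fun h v hv => (h ⟨v, hv⟩).symm, fun h v => (h v v.2).symm⟩
    let T := {v : N // v ≠ 1}
    letI : MulAction G T :=
      { smul := fun g v => ⟨φ g v.1, fun e => v.2 (by simpa using e)⟩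
        one_smul := fun v => Subtype.ext (show φ 1 v.1 = v.1 by rw [map_one, MulAut.one_apply])
        mul_smul := fun g h v => Subtype.ext (show φ (g * h) v.1 = φ g (φ h v.1) by rw [map_mul, MulAut.mul_apply]) }
    have hker' : (MulAction.toPermHom G T).ker = N := by
      rw [← hker]
      ext k
      rw [MonoidHom.mem_ker, MonoidHom.mem_ker]
      refine ⟨fun h => MulEquiv.ext fun v => ?_, fun h => Equiv.ext fun v => Subtype.ext ?_⟩
      · by_cases hv : v = 1
        · rw [hv, map_one, map_one]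
        · exact congrArg Subtype.val (DFunLike.congr_fun h (⟨v, hv⟩ : T))
      · exact DFunLike.congr_fun h v.1
    have hT : Nat.card T = 3 := by
      haveI := Fintype.ofFinite N
      rw [Nat.card_eq_fintype_card] at hN4 ⊢
      simp [T, hN4]
    have hcard : Nat.card G = 4 * N.index := by rw [← hN4, Subgroup.card_mul_index]
    have h6 : N.index ∣ 6 := by
      have := Subgroup.card_subgroup_dvd_card (MulAction.toPermHom G T).range
      rw [Nat.card_perm, hT, ← Subgroup.index_ker, hker'] at this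
      simpa [Nat.factorial] using this
    have h2 : 2 ∣ N.index := by
      have hd : orderOf (QuotientGroup.mk' N z) ∣ 2 ^ 2 := hz ▸ orderOf_map_dvd _ z
      obtain ⟨j, -, hj⟩ := (Nat.dvd_prime_pow Nat.prime_two).1 hd
      rcases Nat.eq_zero_or_pos j with rfl | hj0
      · exfalso
        have : z ∈ N := (QuotientGroup.eq_one_iff z).1 (orderOf_eq_one_iff.1 (by simpa using hj))
        have h := orderOf_dvd_of_pow_eq_one (hNp z this)
        rw [hz] at h
        norm_num at h
      · rw [Subgroup.index_eq_card]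
        exact ((dvd_pow_self 2 hj0.ne').trans hj.symm.dvd).trans (orderOf_dvd_natCard _)
    have h3 : 3 ∣ N.index := by
      by_contra h3
      refine hG (IsPGroup.iff_card.2 ⟨3, ?_⟩)
      have : N.index = 2 := by
        have := Nat.le_of_dvd (by norm_num) h6
        obtain ⟨c, hc⟩ := h2
        have hne := (inferInstance : N.FiniteIndex).index_ne_zero
        obtain rfl | rfl | rfl | rfl : c = 0 ∨ c = 1 ∨ c = 2 ∨ c = 3 := by omega
        all_goals (rw [hc] at h6 h3 hne; omega)
      rw [hcard, this]; norm_num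
    have hidx : N.index = 6 := Nat.dvd_antisymm h6
      (Nat.Coprime.mul_dvd_of_dvd_of_dvd (m := 2) (n := 3) (by norm_num) h2 h3)
    have h24 : Nat.card G = 24 := by rw [hcard, hidx]
    haveI : Fact (Nat.Prime 3) := ⟨Nat.prime_three⟩
    have hfix3 : ∀ (R : Sylow 3 G) (v : G), v ∈ N → v ∈ Subgroup.normalizer ((R : Subgroup G) : Set G) →
        v = 1 := by
      intro R v hv hvR
      obtain ⟨r, hr⟩ := exists_prime_orderOf_dvd_card' (G := (R : Subgroup G)) 3
        (R.dvd_card_of_dvd_card (by rw [h24]; norm_num))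
      rw [← Subgroup.orderOf_coe] at hr
      have h1 : v * (r : G) * v⁻¹ * (r : G)⁻¹ ∈ N ⊓ (R : Subgroup G) := ⟨by
        rw [show v * (r : G) * v⁻¹ * (r : G)⁻¹ = v * ((r : G) * v⁻¹ * (r : G)⁻¹) by group]
        exact mul_mem hv ((‹N.Normal›).conj_mem _ (inv_mem hv) _),
        Subgroup.mul_mem _ ((Subgroup.mem_normalizer_iff.1 hvR _).1 r.2) (Subgroup.inv_mem _ r.2)⟩
      rw [show N ⊓ (R : Subgroup G) = ⊥ from disjoint_iff.1 ((Cores.MinNormal.isPGroup_of_pow_eq_one hNp).disjoint_of_ne 2 3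
        (by norm_num) N _ R.isPGroup'), Subgroup.mem_bot, mul_inv_eq_one, mul_inv_eq_iff_eq_mul] at h1
      exact P.fpf_of_not_dvd N hP hNp (fun e => by rw [e, orderOf_one] at hr; norm_num at hr)
        (by rw [hr]; norm_num) hv h1.symm
    let ψ : G →* Equiv.Perm (Sylow 3 G) := MulAction.toPermHom G (Sylow 3 G)
    have hψ : Function.Injective ψ := by
      rw [← MonoidHom.ker_eq_bot_iff, Subgroup.eq_bot_iff_forall]
      intro k hk
      have hkN : ∀ R : Sylow 3 G, k ∈ Subgroup.normalizer ((R : Subgroup G) : Set G) := fun R =>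
        Sylow.smul_eq_iff_mem_normalizer.1 (DFunLike.congr_fun (MonoidHom.mem_ker.1 hk) R)
      have hker0 : ∀ v ∈ N, v ∈ ψ.ker → v = 1 := fun v hv hvk =>
        hfix3 default v hv (Sylow.smul_eq_iff_mem_normalizer.1 (DFunLike.congr_fun (MonoidHom.mem_ker.1 hvk) _))
      have hk' : k ∈ N := by
        rw [← hKN, hKc]
        intro v hv
        have h1 := hker0 (v * k * v⁻¹ * k⁻¹) (by
          rw [show v * k * v⁻¹ * k⁻¹ = v * (k * v⁻¹ * k⁻¹) by group]
          exact mul_mem hv ((‹N.Normal›).conj_mem _ (inv_mem hv) _))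
          (mul_mem ((inferInstance : ψ.ker.Normal).conj_mem k hk v) (inv_mem hk))
        exact mul_inv_eq_iff_eq_mul.1 (mul_inv_eq_one.1 h1)
      exact hker0 k hk' hk
    have h4 : Nat.card (Sylow 3 G) = 4 := by
      have hle : 24 ≤ (Nat.card (Sylow 3 G)).factorial := by
        rw [← Nat.card_perm, ← h24]; exact Nat.card_le_card_of_injective ψ hψ
      have hmod := card_sylow_modEq_one 3 G
      obtain ⟨R⟩ := (inferInstance : Nonempty (Sylow 3 G))
      have hdvd : Nat.card (Sylow 3 G) ∣ 8 := by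
        have h1 := R.card_dvd_index
        have hR : Nat.card (R : Subgroup G) = 3 := by
          rw [R.card_eq_multiplicity, h24, show (24 : ℕ) = 3 ^ 1 * 8 by norm_num,
            Nat.factorization_mul (by norm_num) (by norm_num), Finsupp.add_apply,
            Nat.Prime.factorization_pow Nat.prime_three, Finsupp.single_eq_same,
            Nat.factorization_eq_zero_of_not_dvd (show ¬ 3 ∣ 8 by norm_num)]
          rfl
        have := (R : Subgroup G).card_mul_index
        rw [hR, h24] at this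
        rwa [show (R : Subgroup G).index = 8 by omega] at h1
      unfold Nat.ModEq at hmod
      have := Nat.le_of_dvd (by norm_num) hdvd
      interval_cases h : Nat.card (Sylow 3 G)
      all_goals first
        | rfl
        | (exfalso; revert hle hmod hdvd; norm_num [Nat.factorial])
    obtain ⟨e⟩ : Nonempty (Sylow 3 G ≃ Fin 4) := ⟨Finite.equivFinOfCardEq h4⟩
    refine ⟨(MulEquiv.ofBijective ψ ((Nat.bijective_iff_injective_and_card ψ).2 ⟨hψ, ?_⟩)).trans
      e.permCongrHom⟩
    rw [Nat.card_perm, h4, h24]; rfl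
  · have hord : ∀ y : G, p ∣ orderOf y → orderOf y = p := by
      intro y hy
      obtain ⟨k, hk⟩ := P.not_mixed N hP hN hNp hy
      rcases lt_trichotomy k 1 with hk1 | rfl | hk1
      · obtain rfl : k = 0 := by omega
        rw [hk, pow_zero] at hy
        exact absurd hy hp.out.not_dvd_one
      · rw [hk, pow_one]
      · exact absurd ⟨y ^ p ^ (k - 2), by
          rw [orderOf_pow_of_dvd (pow_ne_zero _ hp.out.ne_zero) (hk ▸ pow_dvd_pow p (Nat.sub_le _ _)), hk,
            Nat.pow_div (Nat.sub_le _ _) hp.out.pos, show k - (k - 2) = 2 by omega]⟩ hsq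
    haveI : Nontrivial N := (Subgroup.nontrivial_iff_ne_bot N).2 hN
    have h : NormAct p (MulAut.conjNormal : G →* MulAut N) := by
      refine ⟨fun v => Subtype.ext (by simpa using hNp v v.2), fun w hw1 hw v hv => ?_, hord, fun y hy v => ?_⟩
      · exact Subtype.ext (P.fpf_of_not_dvd N hP hNp hw1 hw v.2 (eq_of_conjNormal_fix N hv))
      · refine norm_eq_one_of_pow N (hy ▸ pow_orderOf_eq_one y) (fun v => ?_) v
        by_cases hd : p ∣ orderOf ((v : G) * y)
        · rw [← hord _ hd, pow_orderOf_eq_one]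
        · have hm : QuotientGroup.mk' N ((v : G) * y) = QuotientGroup.mk' N y := by
            rw [map_mul, show QuotientGroup.mk' N (v : G) = 1 from (QuotientGroup.eq_one_iff _).2 v.2, one_mul]
          have hyN : y ∈ N := by
            refine (QuotientGroup.eq_one_iff y).1 (orderOf_eq_one_iff.1 (Nat.eq_one_of_dvd_coprimes
              (hp.out.coprime_iff_not_dvd.2 hd) ?_ (by show orderOf (QuotientGroup.mk' N y) ∣ _; rw [← hm]; exact orderOf_map_dvd (QuotientGroup.mk' N) ((v : G) * y))))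
            exact hy ▸ orderOf_map_dvd (QuotientGroup.mk' N) y
          exact hNp _ (mul_mem v.2 hyN)
    obtain ⟨S⟩ := (inferInstance : Nonempty (Sylow p G))
    haveI hSn := h.sylow_normal S
    have hmemS : ∀ w : G, orderOf w = p → w ∈ (S : Subgroup G) := fun w hw => by
      have hz : IsPGroup p (Subgroup.zpowers w) := IsPGroup.of_card (n := 1) (by rw [Nat.card_zpowers, hw, pow_one])
      obtain ⟨T, hT⟩ := hz.exists_le_sylow
      exact (@Subsingleton.elim _ (@Unique.instSubsingleton _ (Sylow.unique_of_normal S hSn)) T S) ▸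
        hT (Subgroup.mem_zpowers w)
    refine .inr (.inl (exists_complement (S : Subgroup G) ?_ ?_ fun x hx hx1 z hz => ?_))
    · intro e
      have := hmemS v₀ (orderOf_eq_prime (hNp v₀ hv₀) hv₀1)
      rw [e, Subgroup.mem_bot] at this
      exact hv₀1 this
    · exact fun e => hG fun w => by
        obtain ⟨k, hk⟩ := S.isPGroup' ⟨w, e ▸ Subgroup.mem_top w⟩
        exact ⟨k, congrArg Subtype.val hk⟩
    · by_cases hd : p ∣ orderOf z
      · exact hmemS z (hord z hd)
      obtain ⟨k, hk⟩ := IsPGroup.iff_orderOf.1 S.isPGroup' ⟨x, hx⟩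
      rw [← Subgroup.orderOf_coe] at hk
      have hk0 : k ≠ 0 := fun e => hx1 (orderOf_eq_one_iff.1 (hk.trans (by rw [e, pow_zero])))
      rw [h.not_commute (hord x (by rw [hk]; exact dvd_pow_self p hk0)) hd hz.symm]
      exact one_mem _

end Part

end Cfsg.Agent.Lib.Partition73
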