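import Cfsg.Agent.Lib.Partition73.Invol
import Cfsg.Agent.Lib.BenderConsumers23.Structure
import Cfsg.Agent.Lib.BenderOne.Final
import Cfsg.Agent.Lib.BenderSuzuki.Order
import Cfsg.Agent.Lib.BenderSuzuki.Abelian.Main

/-!
# Partitions: all involution centralisers inside components

The normaliser of a component is strongly embedded, so Bender's theorem applies; no element of the
two-point stabiliser centralises an involution, so the group is `PSL(2,2ⁿ)` or `Sz(q)`.
-/

set_option autoImplicit false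
set_option linter.style.haveILetI false
set_option linter.unusedSectionVars false

namespace Cfsg.Agent.Lib.Partition73

open MulAction Cfsg.Agent.Lib.RankOne.Basic Cfsg.Agent.Lib.BenderSuzuki
open Cfsg.Agent.Lib.BenderConsumers23

universe u

variable {G : Type u} [Group G]

/-- All involution centralisers lie in components, none of which is normal; the group is core-free
with no central involution. -/
structure StrongHyp (P : Part G) : Prop where
  one : ∀ t : G, orderOf t = 2 → P.TypeOne t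
  core : ∀ N : Subgroup G, N.Normal → Odd (Nat.card N) → N = ⊥
  notNormal : ∀ t : G, orderOf t = 2 → ¬ (P.comp t).Normal
  noCentral : ∀ t : G, orderOf t = 2 → ∃ g : G, g * t ≠ t * g
  even : ∃ t : G, orderOf t = 2

/-- `PSL(2,2ⁿ)` or `Sz(q)`. -/
def EvenType (G : Type u) [Group G] : Prop :=
  (∃ (F : Type) (_ : Field F) (_ : Fintype F), 4 ≤ Fintype.card F ∧
      Nonempty (G ≃* Matrix.ProjectiveSpecialLinearGroup (Fin 2) F)) ∨
    Cfsg.Lie.IsoSuzuki G

variable [Finite G] {P : Part G} (h : StrongHyp P)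

include h in
theorem invol_mem {t j : G} (ht : orderOf t = 2) (hj : orderOf j = 2)
    (hjN : j ∈ Subgroup.normalizer (P.comp t : Set G)) : j ∈ P.comp t := by
  haveI : Fact (Nat.Prime 2) := ⟨Nat.prime_two⟩
  obtain ⟨S, z, htS, -, hz, hzc⟩ := Part.exists_central ht
  have hcomp := (P.typeOne_of_commute (h.one t ht) ht hz (hzc t htS).symm).1
  set X := P.comp t with hX
  set H := Subgroup.normalizer (X : Set G) with hH
  have hSX : (S : Subgroup G) ≤ X := fun x hx => hcomp ▸ h.one z hz x (hzc x hx)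
  have hXH : X ≤ H := Subgroup.le_normalizer
  haveI : (X.subgroupOf H).Normal := Subgroup.normal_subgroupOf_of_le_normalizer le_rfl
  by_contra hjX
  have h1 : orderOf (QuotientGroup.mk' (X.subgroupOf H) ⟨j, hjN⟩) = 2 := by
    refine ((Nat.dvd_prime Nat.prime_two).1 ?_).resolve_left fun e => hjX ?_
    · exact (orderOf_map_dvd _ _).trans (by rw [Subgroup.orderOf_mk, hj])
    · exact Subgroup.mem_subgroupOf.1 ((QuotientGroup.eq_one_iff _).1 (orderOf_eq_one_iff.1 e))
  have h2 : 2 ∣ X.relIndex H := h1 ▸ orderOf_dvd_natCard _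
  exact S.not_dvd_index ((h2.trans ⟨H.index, (Subgroup.relIndex_mul_index hXH).symm⟩).trans
    (Subgroup.index_dvd_of_le hSX))

include h in
theorem isStronglyEmbedded {t : G} (ht : orderOf t = 2) :
    Cfsg.IsStronglyEmbedded (Subgroup.normalizer (P.comp t : Set G)) := by
  haveI : Fact (Nat.Prime 2) := ⟨Nat.prime_two⟩
  have ht1 : t ≠ 1 := fun e => by rw [e, orderOf_one] at ht; omega
  set H := Subgroup.normalizer (P.comp t : Set G)
  refine ⟨fun e => h.notNormal t ht (Subgroup.normalizer_eq_top_iff.1 e), ?_, fun g hg => ?_⟩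
  · rw [even_iff_two_dvd, ← ht]
    exact Subgroup.orderOf_dvd_natCard H (Subgroup.le_normalizer (P.mem t))
  by_contra hodd
  rw [Nat.not_odd_iff_even, even_iff_two_dvd] at hodd
  obtain ⟨x, hx⟩ := exists_prime_orderOf_dvd_card' 2 hodd
  obtain ⟨hjH, j', hj', hje⟩ := x.2
  rw [← Subgroup.orderOf_coe] at hx
  generalize (x : G) = j at hjH hje hx
  have hj := hx
  have hje' : g * j' * g⁻¹ = j := hje
  have hj'2 : orderOf j' = 2 := by rw [← Part.orderOf_conj' g j', hje', hj]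
  have hj1 : j ≠ 1 := fun e => by rw [e, orderOf_one] at hj; omega
  have h1 := invol_mem h ht hj hjH
  have h2 : j ∈ P.comp (g * t * g⁻¹) := hje' ▸ P.conj_mem g ht1 (invol_mem h ht hj'2 hj')
  refine hg (P.mem_normalizer ht1 (P.mem t) ht1 ?_)
  rw [P.comp_eq_of_common ht1 (Part.conj_ne_one g ht1) hj1 h1 h2]
  exact P.mem _

include h in
theorem twoRank : TwoRank G := by
  obtain ⟨t, ht⟩ := h.even
  by_contra h2
  obtain ⟨g, hg⟩ := h.noCentral t ht
  have hsup := sup_centralizer_of_iso (iso_of_not_twoRank h2 ht)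
  rw [h.core (Cfsg.oddCore G) inferInstance ZStar.Elements.oddCore_odd, bot_sup_eq] at hsup
  exact hg (Subgroup.mem_centralizer_singleton_iff.1 (hsup ▸ Subgroup.mem_top g))

include h in
/-- The set-up with trivial centralisers in the two-point stabiliser. -/
theorem exists_setup :
    ∃ (H : Subgroup G) (t : G) (Q : Subgroup G),
      BenderSuzuki.Hyp G (G ⧸ H) ((1 : G) : G ⧸ H) t Q ∧ IsPGroup 2 Q ∧
      (∀ f ∈ twoStab G ((1 : G) : G ⧸ H) t, ∀ i ∈ invs G ((1 : G) : G ⧸ H), f * i = i * f → f = 1) ∧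
      EvenType G := by
  obtain ⟨t₀, ht₀⟩ := h.even
  have ht₀1 : t₀ ≠ 1 := fun e => by rw [e, orderOf_one] at ht₀; omega
  set X := P.comp t₀ with hX
  set H := Subgroup.normalizer (X : Set G) with hH
  have hse := isStronglyEmbedded h ht₀
  have hcore : H.normalCore = ⊥ :=
    h.core _ (Subgroup.normalCore_normal H) (odd_normalCore hse)
  obtain ⟨t, Q, hh, hg⟩ := good BenderOne.propPartOneFinal BenderSuzuki.propMain hse (twoRank h) hcore
  set a₀ : G ⧸ H := ((1 : G) : G ⧸ H)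
  refine ⟨H, t, Q, hh, hg.1, ?_⟩
  have hS := hh.setup
  have hfix : ∀ g : G, g • a₀ = a₀ → g ∈ H := fun g hg => by
    simpa [a₀, MulAction.Quotient.smul_mk, QuotientGroup.eq] using hg
  have htH : t ∉ H := fun htH => t_smul_ne hS (by simp [a₀, QuotientGroup.eq, htH])
  have hord : ∀ i : G, i ≠ 1 → i * i = 1 → orderOf i = 2 := fun i h1 h2 =>
    orderOf_eq_prime (by rw [sq, h2]) h1
  obtain ⟨i₀, hi₀⟩ := exists_involution hS
  have ht1 : t ≠ 1 := fun e => htH (e ▸ one_mem H)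
  have ht2 := hord t ht1 hS.mul_self
  have hiX : ∀ i ∈ invs G a₀, i ∈ X ∧ P.comp i = X := fun i hi => by
    have := invol_mem h ht₀ (hord i hi.2.1 hi.2.2) (hfix i hi.1)
    exact ⟨this, P.eq_comp ht₀1 this hi.2.1⟩
  have hD : ∀ d ∈ twoStab G a₀ t, d ∈ H := fun d hd => hfix d hd.1
  -- no element centralises an involution of `H` and `t`
  have key : ∀ v : G, ∀ i ∈ invs G a₀, v * i = i * v → v * t = t * v → v = 1 := by
    intro v i hi hvi hvt
    by_contra hv1
    have h1 : v ∈ X := (hiX i hi).2 ▸ h.one i (hord i hi.2.1 hi.2.2) v hvi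
    have h2 : v ∈ P.comp t := h.one t ht2 v hvt
    have h3 := P.mem t
    rw [P.comp_eq_of_common ht1 ht₀1 hv1 h2 h1] at h3
    exact htH (Subgroup.le_normalizer h3)
  obtain ⟨hQ, L, hLn, hLo, hQL, htL, hcase⟩ := hg
  haveI := hLn
  have hq : 2 ≤ qNum G a₀ := by
    haveI : Nonempty ↥(invs G a₀) := ⟨⟨i₀, hi₀⟩⟩
    have : 0 < Nat.card ↥(invs G a₀) := Nat.card_pos
    rw [qNum]
    omega
  -- in the linear and the Suzuki case the group is `L`
  have main : (Nat.card Q = qNum G a₀ ∨ Nat.card Q = qNum G a₀ ^ 2) →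
      ((L ⊓ twoStab G a₀ t : Subgroup G) : Set G) = kSet a₀ t →
      (∀ f ∈ twoStab G a₀ t, ∀ i ∈ invs G a₀, f * i = i * f → f = 1) ∧ Nonempty (G ≃* L) := by
    intro hcard hK
    have hker : vKer a₀ t = ⊥ := by
      by_contra hne
      have h3 := propOrder G (G ⧸ H) a₀ t Q hh hQ hne
      rcases hcard with hc | hc <;> rw [hc] at h3
      · have : qNum G a₀ ^ 1 < qNum G a₀ ^ 3 := Nat.pow_lt_pow_right hq (by norm_num)
        rw [pow_one] at this
        omega
      · exact absurd (Nat.pow_right_injective hq h3) (by norm_num)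
    have hfree : ∀ f ∈ twoStab G a₀ t, ∀ i ∈ invs G a₀, f * i = i * f → f = 1 := by
      intro f hf i hi hfi
      have hfX : f ∈ X := (hiX i hi).2 ▸ h.one i (hord i hi.2.1 hi.2.2) f hfi
      -- `f` centralises `K`
      have hfk : ∀ k ∈ kSet a₀ t, f * k = k * f := by
        intro k hk
        have hkL : k ∈ L ⊓ twoStab G a₀ t := by rw [← SetLike.mem_coe, hK]; exact hk
        have hcK : f * k * f⁻¹ * k⁻¹ ∈ L ⊓ twoStab G a₀ t :=
          mul_mem (Subgroup.mem_inf.2 ⟨hLn.conj_mem k hkL.1 f, mul_mem (mul_mem hf hkL.2) (inv_mem hf)⟩)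
            (inv_mem hkL)
        have hcX : f * k * f⁻¹ * k⁻¹ ∈ X := by
          rw [show f * k * f⁻¹ * k⁻¹ = f * (k * f⁻¹ * k⁻¹) by group]
          exact mul_mem hfX ((Subgroup.mem_normalizer_iff.1 (hD k hkL.2) _).1 (inv_mem hfX))
        have hcK' : f * k * f⁻¹ * k⁻¹ ∈ kSet a₀ t := by rw [← hK]; exact hcK
        by_contra hne
        refine htH (P.mem_normalizer ht₀1 hcX (fun e => hne ?_) ?_)
        · exact mul_inv_eq_iff_eq_mul.1 (mul_inv_eq_one.1 e)
        · rw [t_inv hS, ((mem_invertedBy_iff hS).1 hcK').2]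
          exact inv_mem hcX
      have hfker : f ∈ vKer a₀ t := by
        refine Subgroup.mem_inf.2 ⟨hf, Subgroup.mem_centralizer_iff.2 fun s hs => ?_⟩
        obtain ⟨k, ⟨hk, hks⟩, -⟩ := existsUnique_K hS hi hs
        rw [← hks]
        exact ((((show Commute f k from hfk k hk)).mul_right hfi).mul_right
          (show Commute f k from hfk k hk).inv_right).symm.eq
      rw [hker] at hfker
      exact Subgroup.mem_bot.1 hfker
    refine ⟨hfree, ?_⟩
    have hDL : ∀ d ∈ twoStab G a₀ t, d ∈ L := by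
      intro d hd
      obtain ⟨k, ⟨hk, hks⟩, -⟩ := existsUnique_K hS hi₀ (inverted_conj_mem hS hi₀ hd.1)
      have hkD : k ∈ twoStab G a₀ t := hk.1
      have hc : k⁻¹ * d * i₀ = i₀ * (k⁻¹ * d) := by
        calc k⁻¹ * d * i₀ = k⁻¹ * (d * i₀ * d⁻¹) * d := by group
          _ = i₀ * (k⁻¹ * d) := by rw [← hks]; group
      have := hfree _ (mul_mem (inv_mem hkD) hd) i₀ hi₀ hc
      rw [inv_mul_eq_one] at this
      have hkL : k ∈ L ⊓ twoStab G a₀ t := by rw [← SetLike.mem_coe, hK]; exact hk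
      exact this ▸ hkL.1
    have hstab : ∀ g : G, g • a₀ = a₀ → g ∈ L := by
      intro g hg
      obtain ⟨q, hq, d, hd, rfl⟩ := exists_Q_D hS hg
      exact mul_mem (hQL hq) (hDL d hd)
    have htop : L = ⊤ := by
      rw [eq_top_iff]
      intro g _
      by_cases hga : g • a₀ = a₀
      · exact hstab g hga
      obtain ⟨x, hx, hxg⟩ := Q_trans hS (t_smul_ne hS) hga
      have h1 : (x * t)⁻¹ * g ∈ L := hstab _ (by
        rw [mul_smul, ← hxg, ← mul_smul x t a₀, inv_smul_smul])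
      have h2 : x * t ∈ L := mul_mem (hQL hx) htL
      simpa [mul_assoc] using mul_mem h2 h1
    exact ⟨Subgroup.topEquiv.symm.trans (MulEquiv.subgroupCongr htop.symm)⟩
  rcases hcase with ⟨hc, hK, F, i, j, hF, ⟨n, hn, hqn⟩, ⟨e⟩⟩ | ⟨hc, hK, hsz⟩ |
    ⟨-, hle, hv, F, i, j, n, hn, hqn, -, -⟩
  · obtain ⟨hfree, ⟨f⟩⟩ := main (Or.inl hc) hK
    refine ⟨hfree, Or.inl ⟨F, i, j, ?_, ⟨f.trans e⟩⟩⟩
    rw [hF, hqn]
    exact le_trans (by norm_num) (Nat.pow_le_pow_right (by norm_num : 0 < 2) hn)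
  · obtain ⟨hfree, ⟨f⟩⟩ := main (Or.inr hc) hK
    obtain ⟨F, i, j, m, hm, hF, ⟨e⟩⟩ := hsz
    exact ⟨hfree, Or.inr ⟨F, i, j, m, hm, hF, ⟨f.trans e⟩⟩⟩
  · exfalso
    have hbot : L ⊓ vGrp a₀ t = ⊥ := (Subgroup.eq_bot_iff_forall _).2 fun v hv => by
      have hk : v ∈ vKer a₀ t := hle hv
      exact key v i₀ hi₀ (Subgroup.mem_centralizer_iff.1 hk.2 i₀ hi₀).symm
        (Subgroup.mem_centralizer_singleton_iff.1 hv.2.2)
    rw [hbot, Subgroup.card_bot, one_mul] at hv
    have h3 : Nat.gcd 3 (qNum G a₀ + 1) ≤ 3 := Nat.le_of_dvd (by norm_num) (Nat.gcd_dvd_left _ _)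
    have h4 : 2 ^ 2 ≤ qNum G a₀ := hqn ▸ Nat.pow_le_pow_right (by norm_num) hn
    omega

include h in
theorem evenType : EvenType G := by
  obtain ⟨-, -, -, -, -, -, hc⟩ := exists_setup h
  exact hc

include h in
/-- With abelian 2-subgroups the centralisers of involutions are elementary abelian and act
transitively on the others. -/
theorem local_structure (hab : ∀ K : Subgroup G, IsPGroup 2 K → IsMulCommutative K) :
    (∀ a : G, orderOf a = 2 →
      (∀ c : G, c * a = a * c → c * c = 1) ∧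
      ∀ c d : G, c * a = a * c → d * a = a * d → c * d = d * c) ∧
    ∀ a b c : G, orderOf a = 2 → orderOf b = 2 → orderOf c = 2 → b * a ≠ a * b → c * a ≠ a * c →
      ∃ x : G, x * a = a * x ∧ ∀ y : G, y * (x * b * x⁻¹) = x * b * x⁻¹ * y ↔ y * c = c * y := by
  obtain ⟨H, t, Q, hh, hQ, hfree, -⟩ := exists_setup h
  set a₀ : G ⧸ H := ((1 : G) : G ⧸ H)
  have hS := hh.setup
  have hQc : IsMulCommutative Q := hab Q hQ
  have hcard := BenderSuzuki.Abelian.Main.propAbelian G (G ⧸ H) a₀ t Q hh hQ hQc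
  have hQ2 : ∀ x ∈ Q, x * x = 1 := by
    have hs : Function.Surjective (Subtype.val : {x : Q // x * x = 1} → Q) := by
      refine ((Nat.bijective_iff_injective_and_card _).2 ⟨Subtype.val_injective, ?_⟩).2
      rw [← qNum_eq_card hh, hcard]
    intro x hx
    obtain ⟨⟨y, hy⟩, e⟩ := hs ⟨x, hx⟩
    have e' : y = ⟨x, hx⟩ := e
    exact congrArg Subtype.val (e' ▸ hy)
  have hord : ∀ i : G, orderOf i = 2 → i ≠ 1 ∧ i * i = 1 := fun i hi =>
    ⟨fun e => by rw [e, orderOf_one] at hi; omega, by rw [← sq, ← hi, pow_orderOf_eq_one]⟩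
  -- centralisers of the involutions fixing the point
  have hcen : ∀ i ∈ invs G a₀, ∀ y : G, y * i = i * y ↔ y ∈ Q := by
    intro i hi y
    have hiQ := mem_Q_of_invs hh hi
    refine ⟨fun hy => ?_, fun hy => congrArg Subtype.val (hQc.is_comm.comm (⟨y, hy⟩ : Q) ⟨i, hiQ⟩)⟩
    have hia : i • (y • a₀) = y • a₀ := by rw [← mul_smul, ← hy, mul_smul, show i • a₀ = a₀ from hi.1]
    obtain ⟨q, hq, d, hd, rfl⟩ := exists_Q_D hS (involution_fix_a hS hi hia)
    have hqi : q * i = i * q := congrArg Subtype.val (hQc.is_comm.comm (⟨q, hq⟩ : Q) ⟨i, hiQ⟩)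
    have hdi : d * i = i * d := by
      calc d * i = q⁻¹ * (q * d * i) := by group
        _ = q⁻¹ * (i * q) * d := by rw [hy]; group
        _ = i * d := by rw [← hqi]; group
    rw [hfree d hd i hi hdi, mul_one]
    exact hq
  obtain ⟨i₀, hi₀⟩ := exists_involution hS
  refine ⟨fun a ha => ?_, fun a b c ha hb hc hba hca => ?_⟩
  · obtain ⟨g, hg⟩ := all_conj hS (hord a ha).1 (hord a ha).2 hi₀.2.1 hi₀.2.2
    have hmem : ∀ c : G, c * a = a * c → g * c * g⁻¹ ∈ Q := fun c hc =>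
      (hcen i₀ hi₀ _).1 (hg ▸ Part.conj_commute g hc)
    refine ⟨fun c hc => ?_, fun c d hc hd => ?_⟩
    · calc c * c = g⁻¹ * (g * c * g⁻¹ * (g * c * g⁻¹)) * g := by group
        _ = 1 := by rw [hQ2 _ (hmem c hc)]; group
    · have h1 : g * c * g⁻¹ * (g * d * g⁻¹) = g * d * g⁻¹ * (g * c * g⁻¹) :=
        congrArg Subtype.val (hQc.is_comm.comm (⟨_, hmem c hc⟩ : Q) ⟨_, hmem d hd⟩)
      calc c * d = g⁻¹ * (g * c * g⁻¹ * (g * d * g⁻¹)) * g := by group
        _ = d * c := by rw [h1]; group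
  · obtain ⟨g, hg⟩ := all_conj hS (hord a ha).1 (hord a ha).2 hi₀.2.1 hi₀.2.2
    set b' := g * b * g⁻¹ with hb'
    set c' := g * c * g⁻¹ with hc'
    -- the conjugates move the point
    have hout : ∀ d : G, orderOf d = 2 → d * a ≠ a * d → (g * d * g⁻¹) • a₀ ≠ a₀ := by
      intro d hd hda hfx
      have hd' := hord _ ((Part.orderOf_conj' g d).trans hd)
      have h1 := (hcen i₀ hi₀ _).2 (involutions_stab_mem_Q hS hfx hd'.2)
      have h2 := Part.conj_commute g⁻¹ h1
      rw [← hg, show g⁻¹ * (g * d * g⁻¹) * g⁻¹⁻¹ = d by group,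
        show g⁻¹ * (g * a * g⁻¹) * g⁻¹⁻¹ = a by group] at h2
      exact hda h2
    have hb2 := hord b' ((Part.orderOf_conj' g b).trans hb)
    have hc2 := hord c' ((Part.orderOf_conj' g c).trans hc)
    obtain ⟨cb, hcb, hcbu⟩ := exists_fixed hS hb2.1 hb2.2
    obtain ⟨cc, hcc, hccu⟩ := exists_fixed hS hc2.1 hc2.2
    have hcb_ne : cb ≠ a₀ := fun e => hout b hb hba (e ▸ hcb)
    have hcc_ne : cc ≠ a₀ := fun e => hout c hc hca (e ▸ hcc)
    obtain ⟨x, hx, hxc⟩ := Q_trans hS hcb_ne hcc_ne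
    -- involutions fixing the same point have the same centraliser
    haveI := pretransitive hS
    obtain ⟨w, hw⟩ := MulAction.exists_smul_eq G cc a₀
    have hsame : ∀ d : G, d ≠ 1 → d * d = 1 → d • cc = cc → ∀ y : G,
        (y * d = d * y ↔ w * y * w⁻¹ ∈ Q) := by
      intro d hd1 hd2 hdc y
      have hi : w * d * w⁻¹ ∈ invs G a₀ := by
        refine ⟨?_, fun e => hd1 (conj_eq_one_iff.1 e), ?_⟩
        · show (w * d * w⁻¹) • a₀ = a₀
          rw [← hw, mul_smul, mul_smul, inv_smul_smul, hdc]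
        · calc w * d * w⁻¹ * (w * d * w⁻¹) = w * (d * d) * w⁻¹ := by group
            _ = 1 := by rw [hd2]; group
      rw [← hcen _ hi]
      refine ⟨fun hy => Part.conj_commute w hy, fun hy => ?_⟩
      have h2 := Part.conj_commute w⁻¹ hy
      rwa [show w⁻¹ * (w * y * w⁻¹) * w⁻¹⁻¹ = y by group,
        show w⁻¹ * (w * d * w⁻¹) * w⁻¹⁻¹ = d by group] at h2
    have hxfix : (x * b' * x⁻¹) • cc = cc := by
      rw [← hxc, mul_smul, mul_smul, inv_smul_smul, hcb]
    have hx2 : x * b' * x⁻¹ * (x * b' * x⁻¹) = 1 := by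
      calc x * b' * x⁻¹ * (x * b' * x⁻¹) = x * (b' * b') * x⁻¹ := by group
        _ = 1 := by rw [hb2.2]; group
    refine ⟨g⁻¹ * x * g, ?_, fun y => ?_⟩
    · have h1 := Part.conj_commute g⁻¹ ((hcen i₀ hi₀ x).2 hx)
      rwa [show g⁻¹ * x * g⁻¹⁻¹ = g⁻¹ * x * g by group, ← hg,
        show g⁻¹ * (g * a * g⁻¹) * g⁻¹⁻¹ = a by group] at h1
    · have hiff : ∀ d : G, g * y * g⁻¹ * (g * d * g⁻¹) = g * d * g⁻¹ * (g * y * g⁻¹) ↔ y * d = d * y := by
        intro d
        refine ⟨fun h1 => ?_, fun h1 => Part.conj_commute g h1⟩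
        have h2 := Part.conj_commute g⁻¹ h1
        rwa [show g⁻¹ * (g * y * g⁻¹) * g⁻¹⁻¹ = y by group,
          show g⁻¹ * (g * d * g⁻¹) * g⁻¹⁻¹ = d by group] at h2
      rw [← hiff c, ← hiff, show g * (g⁻¹ * x * g * b * (g⁻¹ * x * g)⁻¹) * g⁻¹ = x * b' * x⁻¹ by
          rw [hb']; group,
        ← hc', hsame _ (Part.conj_ne_one x hb2.1) hx2 hxfix, hsame _ hc2.1 hc2.2 hcc]

end Cfsg.Agent.Lib.Partition73
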