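import Cfsg.Agent.Lib.Partition73.Radical
import Cfsg.Agent.Lib.Partition73.Strong
import Cfsg.Agent.Lib.GorensteinWalter.ModelPSL
import Cfsg.Agent.S1230

/-!
# Partitions: the semisimple case, first part

Without normal components and abelian normal subgroups: all centralisers of involutions of type one
give `PSL(2,2ⁿ)` or `Sz(q)`, all of type two give `PSL(2,2ⁿ)`.
-/

set_option autoImplicit false
set_option linter.style.haveILetI false
set_option linter.unusedSectionVars false

namespace Cfsg.Agent.Lib.Partition73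

open Cfsg.Agent.Lib.BenderConsumers23 Cfsg.Agent.Lib.BenderSuzuki

universe u

variable {G : Type u} [Group G]

/-- No normal component and no non-trivial abelian normal subgroup. -/
structure SemiHyp (P : Part G) : Prop where
  noNormal : P.NoNormal
  noAbelian : ∀ N : Subgroup G, N.Normal → IsMulCommutative N → N = ⊥
  ne : ∃ g : G, g ≠ 1

variable [Finite G] {P : Part G} (h : SemiHyp P)

include h in
theorem SemiHyp.core {N : Subgroup G} (hn : N.Normal) (ho : Odd (Nat.card N)) : N = ⊥ := by
  by_contra hne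
  obtain ⟨A, -, hA1, hAc, hAn⟩ := GorensteinWalter.Model.exists_abelian N ho hne
  haveI := hn
  refine hA1 (h.noAbelian A ⟨fun a ha g => hAn g ?_ a ha⟩
    ⟨⟨fun x y => Subtype.ext (hAc x x.2 y y.2)⟩⟩)
  rw [Subgroup.normalizer_eq_top]
  trivial

include h in
theorem SemiHyp.exists_invol : ∃ t : G, orderOf t = 2 := by
  haveI : Fact (Nat.Prime 2) := ⟨Nat.prime_two⟩
  refine exists_prime_orderOf_dvd_card' 2 ?_
  by_contra hd
  have := h.core (N := ⊤) inferInstance
    (by rw [Subgroup.card_top, ← Nat.not_even_iff_odd, even_iff_two_dvd]; exact hd)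
  obtain ⟨g, hg⟩ := h.ne
  exact hg (Subgroup.mem_bot.1 (this ▸ Subgroup.mem_top g))

include h in
theorem SemiHyp.noCentral {t : G} (ht : orderOf t = 2) : ∃ g : G, g * t ≠ t * g := by
  by_contra hall
  push Not at hall
  have hbot := h.noAbelian (Subgroup.zpowers t) ⟨fun a ha g => by
    obtain ⟨k, rfl⟩ := Subgroup.mem_zpowers_iff.1 ha
    rw [((show Commute g t from hall g).zpow_right k).eq, mul_inv_cancel_right]
    exact ⟨k, rfl⟩⟩ inferInstance
  rw [Subgroup.zpowers_eq_bot] at hbot
  rw [hbot, orderOf_one] at ht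
  omega

include h in
theorem SemiHyp.twoRank : TwoRank G := by
  obtain ⟨t, ht⟩ := h.exists_invol
  by_contra h2
  obtain ⟨g, hg⟩ := h.noCentral ht
  have hsup := sup_centralizer_of_iso (iso_of_not_twoRank h2 ht)
  rw [h.core (N := Cfsg.oddCore G) inferInstance ZStar.Elements.oddCore_odd, bot_sup_eq] at hsup
  exact hg (Subgroup.mem_centralizer_singleton_iff.1 (hsup ▸ Subgroup.mem_top g))

include h in
/-- All centralisers of involutions lie in components. -/
theorem SemiHyp.allOne (hI : ∀ t : G, orderOf t = 2 → P.TypeOne t) : EvenType G :=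
  Partition73.evenType (P := P) ⟨hI, fun _ hn ho => h.core hn ho,
    fun t ht => h.noNormal t fun e => by rw [e, orderOf_one] at ht; omega,
    fun _ ht => h.noCentral ht, h.exists_invol⟩

include h in
/-- All centralisers of involutions are elementary abelian. -/
theorem SemiHyp.allTwo (hII : ∀ t : G, orderOf t = 2 → TypeTwo t) : EvenType G := by
  haveI : Fact (Nat.Prime 2) := ⟨Nat.prime_two⟩
  obtain ⟨x, y, hx, hy, hne, hxx, hyy, hxy⟩ := h.twoRank
  have hxo : orderOf x = 2 := orderOf_eq_prime (by rw [sq, hxx]) hx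
  have hp : IsPGroup 2 (Subgroup.centralizer ({x} : Set G)) := fun c => ⟨1, Subtype.ext (by
    rw [pow_one, sq]
    exact hII x hxo c (Subgroup.mem_centralizer_singleton_iff.1 c.2))⟩
  obtain ⟨T, hT⟩ := hp.exists_le_sylow
  have hxT : x ∈ (T : Subgroup G) := hT (Subgroup.mem_centralizer_singleton_iff.2 rfl)
  have hyT : y ∈ (T : Subgroup G) := hT (Subgroup.mem_centralizer_singleton_iff.2 hxy.symm)
  have hnc : ¬ IsCyclic (T : Subgroup G) := by
    intro hcyc
    classical
    haveI := Fintype.ofFinite (T : Subgroup G)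
    have h2 := IsCyclic.card_pow_eq_one_le (α := (T : Subgroup G)) (n := 2) two_pos
    have hsub : ({1, ⟨x, hxT⟩, ⟨y, hyT⟩} : Finset (T : Subgroup G)) ⊆
        Finset.univ.filter fun a => a ^ 2 = 1 := by
      intro a ha
      simp only [Finset.mem_insert, Finset.mem_singleton] at ha
      refine Finset.mem_filter.2 ⟨Finset.mem_univ _, ?_⟩
      rcases ha with rfl | rfl | rfl
      · exact one_pow _
      · exact Subtype.ext (by simpa [sq] using hxx)
      · exact Subtype.ext (by simpa [sq] using hyy)
    have h3 := (Finset.card_le_card hsub).trans h2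
    rw [Finset.card_insert_of_notMem, Finset.card_pair (fun e => hne (congrArg Subtype.val e))] at h3
    · omega
    · simp only [Finset.mem_insert, Finset.mem_singleton, not_or]
      exact ⟨fun e => hx (congrArg Subtype.val e).symm, fun e => hy (congrArg Subtype.val e).symm⟩
  have hnn : ¬ (T : Subgroup G).Normal := by
    intro hn
    haveI := hn
    haveI : Nontrivial (T : Subgroup G) := ⟨⟨⟨x, hxT⟩, 1, fun e => hx (congrArg Subtype.val e)⟩⟩
    haveI := T.2.center_nontrivial
    obtain ⟨c, hc⟩ := exists_ne (1 : Subgroup.center (T : Subgroup G))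
    have := h.noAbelian ((Subgroup.center (T : Subgroup G)).map (T : Subgroup G).subtype)
      ConjAct.normal_of_characteristic_of_normal (by
        refine ⟨⟨fun a b => Subtype.ext ?_⟩⟩
        obtain ⟨a', ha', ea⟩ := a.2
        obtain ⟨b', -, eb⟩ := b.2
        show (a : G) * b = b * a
        rw [← ea, ← eb, ← map_mul, ← map_mul, Subgroup.mem_center_iff.1 ha' b'])
    rw [Subgroup.map_eq_bot_iff_of_injective _ (Subgroup.subtype_injective _)] at this
    exact hc (Subtype.ext (Subgroup.mem_bot.1 (this ▸ c.2)))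
  have hcomm : ∀ t : G, orderOf t = 2 → ∀ a b : Subgroup.centralizer ({t} : Set G),
      (a : G) * b = b * a := by
    intro t ht a b
    have hA := Subgroup.mem_centralizer_singleton_iff.1 a.2
    have hB := Subgroup.mem_centralizer_singleton_iff.1 b.2
    have hab := hII t ht _ ((show Commute (a : G) t from hA).mul_left hB).eq
    calc (a : G) * b = (a : G) * (a * b * (a * b)) * b := by rw [hab, mul_one]
      _ = (a * a) * (b * a) * (b * b) := by group
      _ = b * a := by rw [hII t ht _ hA, hII t ht _ hB, one_mul, mul_one]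
  obtain ⟨F, i, j, hF, e⟩ := Cfsg.Agent.S1230.result T hnc hnn (fun t ht => ⟨⟨⟨fun a b => Subtype.ext (hcomm t ht a b)⟩⟩,
    fun c hc => by rw [sq]; exact hII t ht c (Subgroup.mem_centralizer_singleton_iff.1 hc)⟩)
  refine Or.inl ⟨F, i, j, ?_, e⟩
  rw [hF]
  obtain ⟨k, hk⟩ := IsPGroup.iff_card.1 T.2
  rcases k with _ | _ | k
  · haveI : Subsingleton (T : Subgroup G) := (Nat.card_eq_one_iff_unique.1 (by rw [hk, pow_zero])).1
    exact (hnc isCyclic_of_subsingleton).elim
  · exact absurd (isCyclic_of_prime_card (p := 2) (by rw [hk]; rfl)) hnc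
  · rw [hk, pow_succ, pow_succ]
    have : 1 ≤ 2 ^ k := Nat.one_le_two_pow
    omega

end Cfsg.Agent.Lib.Partition73
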