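import Cfsg.Agent.Lib.Partition73.Semi
import Cfsg.Agent.Lib.Fusion.Thompson
import Cfsg.Agent.Lib.PGroups.UniqueInvolution
import Cfsg.Agent.Lib.Cores.Basic

/-!
# Partitions: centralisers of the third type

A central involution `z` of a Sylow 2-subgroup `S` has type three.  Then `S ∩ comp z` has a single
involution, so `S` is dihedral: otherwise transfer leaves a normal subgroup in which all centralisers
lie in components, and an element of order four of `C(z)` leads to a contradiction.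
-/

set_option autoImplicit false
set_option linter.style.haveILetI false
set_option linter.unusedSectionVars false

namespace Cfsg.Agent.Lib.Partition73

universe u

variable {G : Type u} [Group G]

/-- The intersection of the subgroups of index two. -/
def twoRes (G : Type u) [Group G] : Subgroup G := ⨅ N : {N : Subgroup G // N.index = 2}, N.1

theorem mem_twoRes {x : G} : x ∈ twoRes G ↔ ∀ N : Subgroup G, N.index = 2 → x ∈ N := by
  simp [twoRes, Subgroup.mem_iInf]

theorem sq_mem_twoRes (x : G) : x * x ∈ twoRes G :=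
  mem_twoRes.2 fun N hN => by rw [← sq]; exact Subgroup.sq_mem_of_index_two hN x

instance twoRes_normal : (twoRes G).Normal :=
  ⟨fun x hx g => mem_twoRes.2 fun N hN =>
    (Subgroup.normal_of_index_eq_two hN).conj_mem x (mem_twoRes.1 hx N hN) g⟩

/-- The restriction to a normal subgroup. -/
def Part.restrict (P : Part G) (hP : P.NoNormal) (K : Subgroup G) [K.Normal] (hK : K ≠ ⊥) : Part K where
  comp g := (P.comp (g : G)).subgroupOf K
  mem g := Subgroup.mem_subgroupOf.2 (P.mem (g : G))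
  eq_of_mem {g h} hg hh hh1 := by
    rw [P.eq_of_mem (g := (g : G)) (h := (h : G)) (fun e => hg (Subtype.ext e))
      (Subgroup.mem_subgroupOf.1 hh) fun e => hh1 (Subtype.ext e)]
  ne_top {g} hg e := by
    have hle : K ≤ P.comp (g : G) := fun x hx =>
      Subgroup.mem_subgroupOf.1 (e ▸ Subgroup.mem_top (⟨x, hx⟩ : K))
    exact hP _ (fun e' => hg (Subtype.ext e')) (P.normal_of_le (fun e' => hg (Subtype.ext e')) hK hle)
  conj_mem {g h} b hg hh := Subgroup.mem_subgroupOf.2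
    (P.conj_mem (b : G) (fun e => hg (Subtype.ext e)) (Subgroup.mem_subgroupOf.1 hh))

theorem inv_eq_of_orderOf {x : G} (hx : orderOf x = 2) : x⁻¹ = x :=
  inv_eq_of_mul_eq_one_right (by rw [← sq, ← hx, pow_orderOf_eq_one])

theorem ne_one_of_orderOf {x : G} (hx : orderOf x = 2) : x ≠ 1 := fun e => by
  rw [e, orderOf_one] at hx; omega

theorem orderOf_of_sq {x : G} (h1 : x ≠ 1) (h2 : x * x = 1) : orderOf x = 2 :=
  orderOf_eq_prime (by rw [sq, h2]) h1

/-- A central involution of type three in a Sylow 2-subgroup, and an element outside its component. -/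
structure Three (P : Part G) (S : Sylow 2 G) (z u : G) : Prop where
  z_mem : z ∈ (S : Subgroup G)
  z_two : orderOf z = 2
  z_central : ∀ x ∈ (S : Subgroup G), x * z = z * x
  z_notOne : ¬ P.TypeOne z
  z_notTwo : ¬ TypeTwo z
  u_mem : u ∈ (S : Subgroup G)
  u_notMem : u ∉ P.comp z

variable [Finite G] {P : Part G}

/-- A central involution of type three. -/
theorem exists_three (hI : ∀ t : G, orderOf t = 2 → ¬ P.TypeOne t) {t : G} (ht : orderOf t = 2)
    (htII : ¬ TypeTwo t) : ∃ (S : Sylow 2 G) (z u : G), Three P S z u := by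
  haveI : Fact (Nat.Prime 2) := ⟨Nat.prime_two⟩
  obtain ⟨S, z₀, htS, hz₀S, hz₀, hz₀c⟩ := Part.exists_central ht
  obtain ⟨z, hzS, hz, hzc, hzII⟩ : ∃ z ∈ (S : Subgroup G), orderOf z = 2 ∧
      (∀ x ∈ (S : Subgroup G), x * z = z * x) ∧ ¬ TypeTwo z := by
    by_cases hII : TypeTwo z₀
    · refine ⟨t, htS, ht, fun x hx => ?_, htII⟩
      have hxt := hII _ (hz₀c _ (mul_mem hx htS))
      calc x * t = x * (x * t * (x * t)) * t := by rw [hxt, mul_one]
        _ = (x * x) * (t * x) * (t * t) := by group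
        _ = t * x := by rw [hII x (hz₀c x hx), hII t (hz₀c t htS), one_mul, mul_one]
    · exact ⟨z₀, hz₀S, hz₀, hz₀c, hII⟩
  obtain ⟨u, hu, hun⟩ : ∃ u ∈ (S : Subgroup G), u ∉ P.comp z := by
    by_contra hno
    push Not at hno
    obtain ⟨c, hc, hcn⟩ : ∃ c, c * z = z * c ∧ c ∉ P.comp z := by
      have := hI z hz
      unfold Part.TypeOne at this
      push Not at this
      exact this
    set C := Subgroup.centralizer ({z} : Set G) with hC
    set M := C ⊓ P.comp z with hM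
    have hcC : c ∈ C := Subgroup.mem_centralizer_singleton_iff.2 hc
    haveI : (M.subgroupOf C).Normal := by
      refine Subgroup.normal_subgroupOf_of_le_normalizer fun x hx => ?_
      refine Subgroup.mem_normalizer_fintype fun m hm =>
        Subgroup.mem_inf.2 ⟨mul_mem (mul_mem hx hm.1) (inv_mem hx), ?_⟩
      exact (Subgroup.mem_normalizer_iff.1 (P.mem_normalizer_of_commute (ne_one_of_orderOf hz) (P.mem z)
        (ne_one_of_orderOf hz) (Subgroup.mem_centralizer_singleton_iff.1 hx)) m).1 hm.2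
    have h1 : orderOf (QuotientGroup.mk' (M.subgroupOf C) ⟨c, hcC⟩) = 2 := by
      refine ((Nat.dvd_prime Nat.prime_two).1 ?_).resolve_left fun e => hcn ?_
      · refine (orderOf_map_dvd _ _).trans ?_
        rw [Subgroup.orderOf_mk]
        exact orderOf_dvd_of_pow_eq_one (by rw [sq]; exact P.sq_of_not_mem hz hc hcn)
      · exact (Subgroup.mem_subgroupOf.1 ((QuotientGroup.eq_one_iff _).1 (orderOf_eq_one_iff.1 e))).2
    have h2 : 2 ∣ M.relIndex C := h1 ▸ orderOf_dvd_natCard _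
    have hSM : (S : Subgroup G) ≤ M := fun x hx =>
      ⟨Subgroup.mem_centralizer_singleton_iff.2 (hzc x hx), hno x hx⟩
    exact S.not_dvd_index ((h2.trans ⟨C.index, (Subgroup.relIndex_mul_index inf_le_left).symm⟩).trans
      (Subgroup.index_dvd_of_le hSM))
  exact ⟨S, z, u, hzS, hz, hzc, hI z hz, hzII, hu, hun⟩

namespace Three

variable {S : Sylow 2 G} {z u : G} (h : Three P S z u)
include h

theorem u_sq {v : G} (hv : v ∈ (S : Subgroup G)) (hvn : v ∉ P.comp z) : v * v = 1 :=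
  P.sq_of_not_mem h.z_two (h.z_central v hv) hvn

theorem inverts {v a : G} (hv : v ∈ (S : Subgroup G)) (hvn : v ∉ P.comp z)
    (ha : a ∈ (S : Subgroup G) ⊓ P.comp z) : v * a * v⁻¹ = a⁻¹ :=
  P.inverts h.z_two (h.z_central v hv) hvn (h.z_central a ha.1) ha.2

theorem comm {a b : G} (ha : a ∈ (S : Subgroup G) ⊓ P.comp z) (hb : b ∈ (S : Subgroup G) ⊓ P.comp z) :
    a * b = b * a :=
  P.comm_of_not_typeOne h.z_two h.z_notOne (h.z_central a ha.1) ha.2 (h.z_central b hb.1) hb.2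

theorem relIndex : ((S : Subgroup G) ⊓ P.comp z).relIndex (S : Subgroup G) = 2 := by
  rw [Subgroup.relIndex, Subgroup.index_eq_two_iff]
  refine ⟨⟨u, h.u_mem⟩, fun b => ?_⟩
  simp only [Subgroup.mem_subgroupOf, Subgroup.coe_mul, Subgroup.mem_inf]
  by_cases hb : (b : G) ∈ P.comp z
  · refine Or.inr ⟨⟨b.2, hb⟩, fun hbu => h.u_notMem ?_⟩
    simpa using mul_mem (inv_mem hb) hbu.2
  · exact Or.inl ⟨⟨mul_mem b.2 h.u_mem, P.mul_mem_of_not_typeTwo h.z_two h.z_notTwo
      (h.z_central b b.2) hb (h.z_central u h.u_mem) h.u_notMem⟩, fun hbz => hb hbz.2⟩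

/-- Involutions of `S ∩ comp z` have no elementary abelian centraliser. -/
theorem notTwo_of_mem {a : G} (ha : a ∈ (S : Subgroup G) ⊓ P.comp z) : ¬ TypeTwo a := by
  intro hII
  apply h.z_notTwo
  intro c hc
  by_cases hcX : c ∈ P.comp z
  · exact hII c (P.comm_of_not_typeOne h.z_two h.z_notOne hc hcX (h.z_central a ha.1) ha.2)
  · exact P.sq_of_not_mem h.z_two hc hcX

/-- With two involutions in `S ∩ comp z` the outside ones have elementary abelian centralisers. -/
theorem two_of_not_mem {v a : G} (ha : a ∈ (S : Subgroup G) ⊓ P.comp z) (ha2 : orderOf a = 2)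
    (hne : a ≠ z) (hv : v ∈ (S : Subgroup G)) (hvn : v ∉ P.comp z) : TypeTwo v := by
  by_contra hII
  have hv1 : v ≠ 1 := fun e => hvn (e ▸ one_mem _)
  have hz1 := ne_one_of_orderOf h.z_two
  have hv2 := orderOf_of_sq hv1 (h.u_sq hv hvn)
  have hout : ∀ w ∈ P.comp z, w ≠ 1 → w ∉ P.comp v := fun w hw hw1 hwv => hvn (by
    have := P.mem v
    rwa [P.comp_eq_of_common hv1 hz1 hw1 hwv hw] at this)
  have hva : a * v = v * a := by
    have := h.inverts hv hvn ha
    rw [inv_eq_of_orderOf ha2] at this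
    exact (mul_inv_eq_iff_eq_mul.1 this).symm
  have h1 := P.mul_mem_of_not_typeTwo hv2 hII hva (hout a ha.2 (ne_one_of_orderOf ha2))
    (h.z_central v hv).symm (hout z (P.mem z) hz1)
  exact hout (a * z) (mul_mem ha.2 (P.mem z)) (fun e => hne (by
    rw [eq_inv_of_mul_eq_one_left e, inv_eq_of_orderOf h.z_two])) h1

/-- Elements outside the component avoid some subgroup of index two. -/
theorem not_mem_twoRes {v a : G} (ha : a ∈ (S : Subgroup G) ⊓ P.comp z) (ha2 : orderOf a = 2)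
    (hne : a ≠ z) (hv : v ∈ (S : Subgroup G)) (hvn : v ∉ P.comp z) : v ∉ twoRes G := by
  set A := (S : Subgroup G) ⊓ P.comp z with hA
  haveI : Fact (Nat.Prime 2) := ⟨Nat.prime_two⟩
  have hv1 : v ≠ 1 := fun e => hvn (e ▸ one_mem _)
  have hv2 := orderOf_of_sq hv1 (h.u_sq hv hvn)
  have hidx : A.index % 4 = 2 := by
    have h1 := Subgroup.relIndex_mul_index (inf_le_left : A ≤ (S : Subgroup G))
    rw [h.relIndex] at h1
    obtain ⟨k, hk⟩ : Odd (S : Subgroup G).index := Nat.odd_iff.2 (Nat.two_dvd_ne_zero.1 S.not_dvd_index)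
    change 2 * (S : Subgroup G).index = A.index at h1
    omega
  obtain ⟨N, hN, hvN⟩ := Fusion.Thompson.exists_index_two_of_fixedPointFree (α := G ⧸ A)
    (by rw [← Subgroup.index_eq_card]; exact hidx) v hv2 (fun x => by
      induction x using QuotientGroup.induction_on with
      | H k =>
        intro he
        rw [MulAction.Quotient.smul_mk, smul_eq_mul, QuotientGroup.eq] at he
        have hm : k⁻¹ * v * k ∈ A := by
          have := A.inv_mem he
          simpa [mul_assoc] using this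
        refine h.notTwo_of_mem hm ?_
        have := Part.conj_typeTwo (h.two_of_not_mem ha ha2 hne hv hvn) k⁻¹
        rwa [inv_inv] at this)
  exact fun hm => hvN (mem_twoRes.1 hm N hN)

/-- `S ∩ comp z` has a single involution. -/
theorem unique_invol (hs : SemiHyp P) (hI : ∀ t : G, orderOf t = 2 → ¬ P.TypeOne t) {a : G}
    (ha : a ∈ (S : Subgroup G) ⊓ P.comp z) (ha2 : orderOf a = 2) : a = z := by
  by_contra hne
  classical
  haveI : Fact (Nat.Prime 2) := ⟨Nat.prime_two⟩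
  set K := twoRes G with hK
  have hK1 : K ≠ ⊥ := by
    intro e
    obtain ⟨g, hg⟩ := hs.ne
    have hsq : ∀ x : G, x * x = 1 := fun x => Subgroup.mem_bot.1 (e ▸ sq_mem_twoRes x)
    have hc : IsMulCommutative (⊤ : Subgroup G) := ⟨⟨fun x y => Subtype.ext (by
      calc (x : G) * y = x * (x * y * (x * y)) * y := by rw [hsq, mul_one]
        _ = (x * x) * (y * x) * (y * y) := by group
        _ = y * x := by rw [hsq, hsq, one_mul, mul_one])⟩⟩
    exact hg (Subgroup.mem_bot.1 (hs.noAbelian ⊤ inferInstance hc ▸ Subgroup.mem_top g))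
  -- 2-subgroups of `K` lie in a conjugate of `S ∩ comp z`
  have hconj : ∀ Q : Subgroup G, IsPGroup 2 Q → Q ≤ K →
      ∃ g : G, ∀ x ∈ Q, g * x * g⁻¹ ∈ (S : Subgroup G) ⊓ P.comp z := by
    intro Q hQ hQK
    obtain ⟨T, hT⟩ := hQ.exists_le_sylow
    obtain ⟨g, hg⟩ := MulAction.exists_smul_eq G T S
    refine ⟨g, fun x hx => ?_⟩
    have hS : g * x * g⁻¹ ∈ (S : Subgroup G) := by
      rw [← hg]
      exact Subgroup.smul_mem_pointwise_smul _ (MulAut.conj g) (T : Subgroup G) (hT hx)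
    refine ⟨hS, by_contra fun hn => h.not_mem_twoRes ha ha2 hne hS hn ?_⟩
    exact (twoRes_normal (G := G)).conj_mem x (hQK hx) g
  have hpz : ∀ x : G, orderOf x = 2 → IsPGroup 2 (Subgroup.zpowers x) := fun x hx =>
    IsPGroup.of_card (n := 1) (by rw [Nat.card_zpowers, hx, pow_one])
  have hKone : ∀ j : G, j ∈ K → orderOf j = 2 → ¬ TypeTwo j := by
    intro j hj hj2 hII
    obtain ⟨g, hg⟩ := hconj (Subgroup.zpowers j) (hpz j hj2) (Subgroup.zpowers_le.2 hj)
    exact h.notTwo_of_mem (hg j (Subgroup.mem_zpowers j)) (Part.conj_typeTwo hII g)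
  -- in `K` centralisers lie in components
  have hcK : ∀ j c : G, j ∈ K → orderOf j = 2 → c ∈ K → c * j = j * c → c ∈ P.comp j := by
    intro j c hj hj2 hcK hcj
    by_contra hn
    have hc1 : c ≠ 1 := fun e => hn (e ▸ one_mem _)
    have hj1 := ne_one_of_orderOf hj2
    have hc2 := orderOf_of_sq hc1 (P.sq_of_not_mem hj2 hcj hn)
    have hle : Subgroup.zpowers c ≤ Subgroup.normalizer (Subgroup.zpowers j : Set G) :=
      (Subgroup.zpowers_le.2 (Subgroup.mem_centralizer_iff.2 fun x hx => by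
        obtain ⟨i, rfl⟩ := hx
        exact ((show Commute j c from hcj.symm).zpow_left i).eq)).trans
        (Subgroup.centralizer_le_normalizer _)
    obtain ⟨g, hg⟩ := hconj (Subgroup.zpowers c ⊔ Subgroup.zpowers j)
      (IsPGroup.to_sup_of_normal_right' (hpz c hc2) (hpz j hj2) hle)
      (sup_le (Subgroup.zpowers_le.2 hcK) (Subgroup.zpowers_le.2 hj))
    have h1 := (hg c (Subgroup.mem_sup_left (Subgroup.mem_zpowers c))).2
    have h2 := (hg j (Subgroup.mem_sup_right (Subgroup.mem_zpowers j))).2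
    rw [← P.eq_comp (ne_one_of_orderOf h.z_two) h2 (Part.conj_ne_one g hj1)] at h1
    have h3 := P.conj_mem g⁻¹ (Part.conj_ne_one g hj1) h1
    rw [show g⁻¹ * (g * c * g⁻¹) * g⁻¹⁻¹ = c by group,
      show g⁻¹ * (g * j * g⁻¹) * g⁻¹⁻¹ = j by group] at h3
    exact hn h3
  set P₁ := P.restrict hs.noNormal K hK1 with hP₁
  have hval : ∀ j : K, orderOf j = 2 → orderOf (j : G) = 2 := fun j hj => by rw [Subgroup.orderOf_coe, hj]
  have hS₁ : StrongHyp P₁ := by
    refine ⟨fun j hj c hc => Subgroup.mem_subgroupOf.2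
      (hcK j c j.2 (hval j hj) c.2 (congrArg Subtype.val hc)), fun N hN ho => ?_, fun j hj hnor => ?_,
      fun j hj => ?_, ?_⟩
    · haveI := hN
      have hn := Cores.normal_map_subtype K (Cfsg.pPrimeCore 2 K)
      have h1 := hs.core hn (by
        rw [Subgroup.card_map_of_injective K.subtype_injective]; exact ZStar.Elements.oddCore_odd)
      rw [Subgroup.map_eq_bot_iff_of_injective _ K.subtype_injective] at h1
      exact le_bot_iff.1 ((ZStar.Elements.le_oddCore ho).trans h1.le)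
    · -- two conjugate components normalised by `K` centralise each other
      have hj1 := ne_one_of_orderOf (hval j hj)
      have hn : ∀ k ∈ K, ∀ y ∈ K, y ∈ P.comp (j : G) → k * y * k⁻¹ ∈ P.comp (j : G) :=
        fun k hk y hy hyc => Subgroup.mem_subgroupOf.1 (hnor.conj_mem ⟨y, hy⟩ hyc ⟨k, hk⟩)
      refine hs.noNormal _ hj1 (P.normal_of_invariant hj1 fun g => ⟨j, P.mem _, hj1, ?_⟩)
      set X := P.comp (j : G)
      set j₂ := g * (j : G) * g⁻¹ with hj₂
      by_contra hn2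
      have hj₂K : j₂ ∈ K := (twoRes_normal (G := G)).conj_mem _ j.2 g
      have h21 : j₂ ≠ 1 := Part.conj_ne_one g hj1
      have hdiff : P.comp j₂ ≠ X := fun e => hn2 (e ▸ P.mem j₂)
      have hk1 : (j : G) * j₂ * (j : G)⁻¹ ∈ P.comp j₂ := by
        have := P.conj_mem g hj1 (hn (g⁻¹ * j * g) (by
          simpa using (twoRes_normal (G := G)).conj_mem _ j.2 g⁻¹) j j.2 (P.mem _))
        rwa [show g * (g⁻¹ * (j : G) * g * j * (g⁻¹ * (j : G) * g)⁻¹) * g⁻¹ = (j : G) * j₂ * (j : G)⁻¹ by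
          rw [hj₂]; group] at this
      have hcomm : (j : G) * j₂ * (j : G)⁻¹ * j₂⁻¹ = 1 := by
        refine P.eq_one_of_mem_of_mem hj1 h21 (Ne.symm hdiff) ?_ (mul_mem hk1 (inv_mem (P.mem j₂)))
        rw [show (j : G) * j₂ * (j : G)⁻¹ * j₂⁻¹ = (j : G) * (j₂ * (j : G)⁻¹ * j₂⁻¹) by group]
        exact mul_mem (P.mem _) (hn j₂ hj₂K _ (inv_mem j.2) (inv_mem (P.mem _)))
      exact hn2 (hcK j j₂ j.2 (hval j hj) hj₂K
        (mul_inv_eq_iff_eq_mul.1 (mul_inv_eq_one.1 hcomm)).symm)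
    · by_contra hall
      push Not at hall
      have hjc : j ∈ Subgroup.center K := Subgroup.mem_center_iff.2 hall
      have h1 := hs.noAbelian _ (Cores.normal_map_subtype K (Subgroup.center K)) (by
        refine ⟨⟨fun x y => Subtype.ext ?_⟩⟩
        obtain ⟨x', hx', ex⟩ := x.2
        obtain ⟨y', -, ey⟩ := y.2
        show (x : G) * y = y * x
        rw [← ex, ← ey, ← map_mul, ← map_mul, Subgroup.mem_center_iff.1 hx' y'])
      rw [Subgroup.map_eq_bot_iff_of_injective _ K.subtype_injective] at h1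
      rw [h1, Subgroup.mem_bot] at hjc
      exact ne_one_of_orderOf hj hjc
    · refine exists_prime_orderOf_dvd_card' 2 ?_
      by_contra hd
      exact hK1 (hs.core (twoRes_normal (G := G)) (by rwa [← Nat.not_even_iff_odd, even_iff_two_dvd]))
  have hab : ∀ Q : Subgroup K, IsPGroup 2 Q → IsMulCommutative Q := by
    intro Q hQ
    obtain ⟨g, hg⟩ := hconj (Q.map K.subtype) (hQ.map _) (Subgroup.map_subtype_le Q)
    refine ⟨⟨fun x y => Subtype.ext (Subtype.ext ?_)⟩⟩
    have : g * ((x : K) : G) * g⁻¹ * (g * ((y : K) : G) * g⁻¹) =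
        g * ((y : K) : G) * g⁻¹ * (g * ((x : K) : G) * g⁻¹) :=
      h.comm (hg _ ⟨_, x.2, rfl⟩) (hg _ ⟨_, y.2, rfl⟩)
    calc ((x : K) : G) * ((y : K) : G)
        = g⁻¹ * (g * ((x : K) : G) * g⁻¹ * (g * ((y : K) : G) * g⁻¹)) * g := by group
      _ = ((y : K) : G) * ((x : K) : G) := by
        rw [this]; group
  obtain ⟨hel, htr⟩ := local_structure hS₁ hab
  -- an involution of `S ∩ K`
  obtain ⟨i, hi⟩ := hS₁.even
  obtain ⟨g₀, hg₀⟩ := hconj (Subgroup.zpowers (i : G)) (hpz _ (hval i hi)) (Subgroup.zpowers_le.2 i.2)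
  set b₀ := g₀ * (i : G) * g₀⁻¹ with hb₀
  have hb₀K : b₀ ∈ K := (twoRes_normal (G := G)).conj_mem _ i.2 g₀
  have hb₀A := hg₀ _ (Subgroup.mem_zpowers (i : G))
  have hb₀2 : orderOf b₀ = 2 := (Part.orderOf_conj' g₀ (i : G)).trans (hval i hi)
  -- `C(z) ∩ comp z` is a 2-group
  obtain ⟨c, hcz, hcX, hcc⟩ : ∃ c : G, c * z = z * c ∧ c ∈ P.comp z ∧ c * c ≠ 1 := by
    have := h.z_notTwo
    unfold TypeTwo at this
    push Not at this
    obtain ⟨c, hc, hcc⟩ := this
    exact ⟨c, hc, by_contra fun hn => hcc (P.sq_of_not_mem h.z_two hc hn), hcc⟩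
  obtain ⟨k, w, hw, hkw⟩ := Nat.exists_eq_two_pow_mul_odd (n := orderOf c) (orderOf_pos c).ne'
  have hc2k : c ^ 2 ^ k = 1 := by
    by_contra hne1
    have ho : orderOf (c ^ 2 ^ k) = w := by
      rw [orderOf_pow_of_dvd (by positivity) (hkw ▸ dvd_mul_right _ _), hkw,
        Nat.mul_div_cancel_left _ (by positivity)]
    have hdK : c ^ 2 ^ k ∈ K := by
      obtain ⟨l, hl⟩ := hw
      have e : c ^ 2 ^ k = (c ^ 2 ^ k) ^ (l + 1) * (c ^ 2 ^ k) ^ (l + 1) := by
        rw [← pow_add, show l + 1 + (l + 1) = orderOf (c ^ 2 ^ k) + 1 by omega, pow_succ, pow_orderOf_eq_one,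
          one_mul]
      rw [e]
      exact sq_mem_twoRes _
    have hdb : c ^ 2 ^ k * b₀ = b₀ * c ^ 2 ^ k :=
      P.comm_of_not_typeOne h.z_two h.z_notOne ((show Commute c z from hcz).pow_left _).eq
        (pow_mem hcX _) (h.z_central b₀ hb₀A.1) hb₀A.2
    have h2 := congrArg Subtype.val ((hel ⟨b₀, hb₀K⟩ (by rw [Subgroup.orderOf_mk]; exact hb₀2)).1
      ⟨c ^ 2 ^ k, hdK⟩ (Subtype.ext hdb))
    have h2' : (c ^ 2 ^ k) ^ 2 = 1 := by rw [sq]; exact h2
    have h3 : orderOf (c ^ 2 ^ k) ∣ 2 := orderOf_dvd_of_pow_eq_one h2'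
    rw [ho] at h3
    rcases (Nat.dvd_prime Nat.prime_two).1 h3 with h4 | h4
    · exact hne1 (orderOf_eq_one_iff.1 (ho.trans h4))
    · rw [h4] at hw; exact absurd hw (by decide)
  obtain ⟨l, hl⟩ : ∃ l, orderOf c = 2 ^ (l + 2) := by
    obtain ⟨j, hjk, hj⟩ := (Nat.dvd_prime_pow Nat.prime_two).1 (orderOf_dvd_of_pow_eq_one hc2k)
    refine ⟨j - 2, ?_⟩
    rcases j with _ | _ | j
    · exact absurd (by rw [orderOf_eq_one_iff.1 hj, one_mul]) hcc
    · exact absurd (by rw [← sq]; exact (show c ^ 2 = 1 from (show (2 : ℕ) = orderOf c by rw [hj]; rfl) ▸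
        pow_orderOf_eq_one c)) hcc
    · simpa using hj
  set m := c ^ 2 ^ l with hm
  set a' := m * m with ha'
  have ha'o : orderOf a' = 2 := by
    rw [ha', hm, ← pow_add, ← two_mul, ← pow_succ', orderOf_pow_of_dvd (by positivity)
      (hl ▸ pow_dvd_pow 2 (by omega)), hl, pow_succ _ (l + 1), Nat.mul_div_cancel_left _ (by positivity)]
  have ha'K : a' ∈ K := sq_mem_twoRes m
  have hma : m * a' = a' * m := by rw [ha', mul_assoc]
  have hm1 : m ≠ 1 := fun e => ne_one_of_orderOf ha'o (by rw [ha', e, one_mul])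
  have hmX : m ∈ P.comp a' := by
    rw [P.eq_comp hm1 (show a' ∈ P.comp m from mul_mem (P.mem m) (P.mem m)) (ne_one_of_orderOf ha'o)]
    exact P.mem m
  have hmK : ∀ x ∈ K, x * a' = a' * x → m * x = x * m := fun x hx hxa =>
    P.comm_of_not_typeOne ha'o (hI a' ha'o) hma hmX hxa (hcK a' x ha'K ha'o hx hxa)
  -- an involution of `K` not commuting with `a'`
  obtain ⟨b, hbK, hb, hba⟩ : ∃ b ∈ K, orderOf b = 2 ∧ b * a' ≠ a' * b := by
    by_contra hno
    push Not at hno
    refine hs.noNormal a' (ne_one_of_orderOf ha'o) (P.normal_of_invariant (ne_one_of_orderOf ha'o)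
      fun g => ⟨a', P.mem a', ne_one_of_orderOf ha'o, ?_⟩)
    have hgK := (twoRes_normal (G := G)).conj_mem a' ha'K g
    exact hcK a' _ ha'K ha'o hgK (hno _ hgK ((Part.orderOf_conj' g a').trans ha'o))
  have hb'K : m * b * m⁻¹ ∈ K := (twoRes_normal (G := G)).conj_mem b hbK m
  have hb'a : m * b * m⁻¹ * a' ≠ a' * (m * b * m⁻¹) := by
    intro e
    have h1 := Part.conj_commute m⁻¹ e
    have h2 : m⁻¹ * a' * m⁻¹⁻¹ = a' := by rw [mul_assoc, inv_inv, ← hma, inv_mul_cancel_left]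
    rw [h2, show m⁻¹ * (m * b * m⁻¹) * m⁻¹⁻¹ = b by group] at h1
    exact hba h1
  obtain ⟨⟨x, hxK⟩, hxa, hxy⟩ := htr ⟨a', ha'K⟩ ⟨b, hbK⟩ ⟨m * b * m⁻¹, hb'K⟩
    (by rw [Subgroup.orderOf_mk]; exact ha'o) (by rw [Subgroup.orderOf_mk]; exact hb)
    (by rw [Subgroup.orderOf_mk]; exact (Part.orderOf_conj' m b).trans hb)
    (fun e => hba (congrArg Subtype.val e)) (fun e => hb'a (congrArg Subtype.val e))
  have hxa' : x * a' = a' * x := congrArg Subtype.val hxa
  have hmx := hmK x hxK hxa'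
  have hx2 : x * x = 1 :=
    congrArg Subtype.val ((hel ⟨a', ha'K⟩ (by rw [Subgroup.orderOf_mk]; exact ha'o)).1 ⟨x, hxK⟩ hxa)
  set n := x⁻¹ * m with hn
  have hn2 : n * n = a' := by
    rw [hn, ha', show x⁻¹ * m * (x⁻¹ * m) = x⁻¹ * (m * x⁻¹) * m by group,
      (show Commute m x from hmx).inv_right.eq, ← mul_assoc, ← mul_inv_rev, hx2, inv_one, one_mul]
  -- conjugation by `n` preserves the centraliser of `b` in `K`
  have hstep : ∀ y ∈ K, y * b = b * y → n⁻¹ * y * n * b = b * (n⁻¹ * y * n) := by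
    intro y hy hyb
    have hyx : x * y * x⁻¹ ∈ K := mul_mem (mul_mem hxK hy) (inv_mem hxK)
    have h1 := congrArg Subtype.val ((hxy ⟨x * y * x⁻¹, hyx⟩).1 (Subtype.ext (Part.conj_commute x hyb)))
    have h2 := Part.conj_commute m⁻¹ h1
    change m⁻¹ * (x * y * x⁻¹) * m⁻¹⁻¹ * (m⁻¹ * (m * b * m⁻¹) * m⁻¹⁻¹) =
      m⁻¹ * (m * b * m⁻¹) * m⁻¹⁻¹ * (m⁻¹ * (x * y * x⁻¹) * m⁻¹⁻¹) at h2
    rwa [show m⁻¹ * (m * b * m⁻¹) * m⁻¹⁻¹ = b by group,
      show m⁻¹ * (x * y * x⁻¹) * m⁻¹⁻¹ = n⁻¹ * y * n by rw [hn]; group] at h2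
  have h1 := hstep b hbK rfl
  have hnbK : n⁻¹ * b * n ∈ K := by simpa using (twoRes_normal (G := G)).conj_mem b hbK n⁻¹
  have h2 := hstep _ hnbK h1
  rw [show n⁻¹ * (n⁻¹ * b * n) * n = (n * n)⁻¹ * b * (n * n) by group, hn2, inv_eq_of_orderOf ha'o] at h2
  -- so `a'` fixes an involution of the centraliser of `b`
  have haa : a' * a' = 1 := by rw [← sq, ← ha'o, pow_orderOf_eq_one]
  have hbb : b * b = 1 := by rw [← sq, ← hb, pow_orderOf_eq_one]
  obtain ⟨w', hw'⟩ : ∃ w', w' = b * (a' * b * a') := ⟨_, rfl⟩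
  have hw'1 : w' ≠ 1 := by
    intro e
    apply hba
    have e1 : a' * b * a' = b := by
      rw [hw'] at e
      rw [eq_inv_of_mul_eq_one_right e, inv_eq_of_orderOf hb]
    calc b * a' = a' * b * a' * a' := by rw [e1]
      _ = a' * b := by rw [mul_assoc, haa, mul_one]
  have hw'2 : w' * w' = 1 := by
    calc w' * w' = b * (a' * b * a') * (b * (a' * b * a')) := by rw [hw']
      _ = b * (a' * b * a' * b) * (a' * b * a') := by group
      _ = b * b * (a' * b * a' * (a' * b * a')) := by rw [h2]; group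
      _ = a' * b * (a' * a') * b * a' := by rw [hbb, one_mul]; group
      _ = 1 := by rw [haa, mul_one, mul_assoc a' b b, hbb, mul_one, haa]
  have hw'K : w' ∈ K := hw' ▸ mul_mem hbK (mul_mem (mul_mem ha'K hbK) ha'K)
  have hwb : b * w' = w' * b := by
    rw [hw', mul_assoc b (a' * b * a') b, h2]
  have hwa : a' * w' = w' * a' := by
    calc a' * w' = a' * b * a' * b * a' := by rw [hw']; group
      _ = b * (a' * b * a') * a' := by rw [h2]
      _ = w' * a' := by rw [hw']
  have hfin := (hel ⟨w', hw'K⟩ (by rw [Subgroup.orderOf_mk]; exact orderOf_of_sq hw'1 hw'2)).2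
    ⟨b, hbK⟩ ⟨a', ha'K⟩ (Subtype.ext hwb) (Subtype.ext hwa)
  exact hba (congrArg Subtype.val hfin)

theorem isCyclic (hs : SemiHyp P) (hI : ∀ t : G, orderOf t = 2 → ¬ P.TypeOne t) :
    IsCyclic ↥((S : Subgroup G) ⊓ P.comp z) := by
  haveI : Fact (Nat.Prime 2) := ⟨Nat.prime_two⟩
  refine PGroups.isCyclic_of_comm_omega (p := 2) ⟨⟨fun a b => Subtype.ext (h.comm a.2 b.2)⟩⟩
    (S.2.to_le inf_le_left) ?_
  have hle : Cfsg.omegaOne 2 ((S : Subgroup G) ⊓ P.comp z) ≤ Subgroup.zpowers z := by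
    refine (Subgroup.closure_le _).2 fun x hx => ?_
    by_cases hx1 : x = 1
    · exact hx1 ▸ one_mem _
    · rw [h.unique_invol hs hI hx.1 (orderOf_eq_prime hx.2 hx1)]
      exact Subgroup.mem_zpowers z
  have := Subgroup.card_dvd_of_le hle
  rw [Nat.card_zpowers, h.z_two] at this
  exact Nat.le_of_dvd two_pos this

end Three

end Cfsg.Agent.Lib.Partition73
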